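import Cfsg.Agent.Lib.Sporadic.J3Unique.CertData

/-!
# Coset enumeration certificate for the J3 uniqueness presentation, part 2

Machine-generated data and the kernel checks on it.
-/

set_option maxRecDepth 100000

namespace CfsgLib.Sporadic.CosetCert.J3U

theorem certU_keys26 : certU.keysOK 104000 4000 = true := by decide +kernel
theorem certU_keys27 : certU.keysOK 108000 4000 = true := by decide +kernel
theorem certU_keys28 : certU.keysOK 112000 4000 = true := by decide +kernel
theorem certU_keys29 : certU.keysOK 116000 4000 = true := by decide +kernel
theorem certU_keys30 : certU.keysOK 120000 4000 = true := by decide +kernel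
theorem certU_keys31 : certU.keysOK 124000 4000 = true := by decide +kernel
theorem certU_keys32 : certU.keysOK 128000 4000 = true := by decide +kernel
theorem certU_keys33 : certU.keysOK 132000 4000 = true := by decide +kernel
theorem certU_keys34 : certU.keysOK 136000 4000 = true := by decide +kernel
theorem certU_keys35 : certU.keysOK 140000 4000 = true := by decide +kernel
theorem certU_keys36 : certU.keysOK 144000 4000 = true := by decide +kernel
theorem certU_keys37 : certU.keysOK 148000 4000 = true := by decide +kernel
theorem certU_keys38 : certU.keysOK 152000 4000 = true := by decide +kernel

end CfsgLib.Sporadic.CosetCert.J3U
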