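import Cfsg.Agent.Lib.Sporadic.J3Unique.CertData

/-!
# Coset enumeration certificate for the J3 uniqueness presentation, part 3

Machine-generated data and the kernel checks on it.
-/

set_option maxRecDepth 100000

namespace CfsgLib.Sporadic.CosetCert.J3U

theorem certU_keys39 : certU.keysOK 156000 4000 = true := by decide +kernel
theorem certU_keys40 : certU.keysOK 160000 4000 = true := by decide +kernel
theorem certU_keys41 : certU.keysOK 164000 4000 = true := by decide +kernel
theorem certU_keys42 : certU.keysOK 168000 4000 = true := by decide +kernel
theorem certU_keys43 : certU.keysOK 172000 4000 = true := by decide +kernel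
theorem certU_keys44 : certU.keysOK 176000 4000 = true := by decide +kernel
theorem certU_keys45 : certU.keysOK 180000 4000 = true := by decide +kernel
theorem certU_keys46 : certU.keysOK 184000 4000 = true := by decide +kernel
theorem certU_keys47 : certU.keysOK 188000 4000 = true := by decide +kernel
theorem certU_keys48 : certU.keysOK 192000 4000 = true := by decide +kernel
theorem certU_keys49 : certU.keysOK 196000 4000 = true := by decide +kernel
theorem certU_keys50 : certU.keysOK 200000 4000 = true := by decide +kernel
theorem certU_keys51 : certU.keysOK 204000 4000 = true := by decide +kernel

end CfsgLib.Sporadic.CosetCert.J3U
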