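import Cfsg.Agent.Lib.Sporadic.J3Unique.CertData

/-!
# Coset enumeration certificate for the J3 uniqueness presentation, part 4

Machine-generated data and the kernel checks on it.
-/

set_option maxRecDepth 100000

namespace CfsgLib.Sporadic.CosetCert.J3U

theorem certU_keys52 : certU.keysOK 208000 4000 = true := by decide +kernel
theorem certU_keys53 : certU.keysOK 212000 4000 = true := by decide +kernel
theorem certU_keys54 : certU.keysOK 216000 4000 = true := by decide +kernel
theorem certU_keys55 : certU.keysOK 220000 4000 = true := by decide +kernel
theorem certU_keys56 : certU.keysOK 224000 4000 = true := by decide +kernel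
theorem certU_keys57 : certU.keysOK 228000 4000 = true := by decide +kernel
theorem certU_keys58 : certU.keysOK 232000 4000 = true := by decide +kernel
theorem certU_keys59 : certU.keysOK 236000 4000 = true := by decide +kernel
theorem certU_keys60 : certU.keysOK 240000 4000 = true := by decide +kernel
theorem certU_keys61 : certU.keysOK 244000 4000 = true := by decide +kernel
theorem certU_keys62 : certU.keysOK 248000 4000 = true := by decide +kernel
theorem certU_keys63 : certU.keysOK 252000 4000 = true := by decide +kernel
theorem certU_keys64 : certU.keysOK 256000 4000 = true := by decide +kernel

end CfsgLib.Sporadic.CosetCert.J3U
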