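import Cfsg.Agent.Lib.Sporadic.J3Unique.CertData

/-!
# Coset enumeration certificate for the J3 uniqueness presentation, part 5

Machine-generated data and the kernel checks on it.
-/

set_option maxRecDepth 100000

namespace CfsgLib.Sporadic.CosetCert.J3U

theorem certU_keys65 : certU.keysOK 260000 4000 = true := by decide +kernel
theorem certU_keys66 : certU.keysOK 264000 4000 = true := by decide +kernel
theorem certU_keys67 : certU.keysOK 268000 4000 = true := by decide +kernel
theorem certU_keys68 : certU.keysOK 272000 4000 = true := by decide +kernel
theorem certU_keys69 : certU.keysOK 276000 4000 = true := by decide +kernel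
theorem certU_keys70 : certU.keysOK 280000 4000 = true := by decide +kernel
theorem certU_keys71 : certU.keysOK 284000 4000 = true := by decide +kernel
theorem certU_keys72 : certU.keysOK 288000 4000 = true := by decide +kernel
theorem certU_keys73 : certU.keysOK 292000 4000 = true := by decide +kernel
theorem certU_keys74 : certU.keysOK 296000 4000 = true := by decide +kernel
theorem certU_keys75 : certU.keysOK 300000 4000 = true := by decide +kernel
theorem certU_keys76 : certU.keysOK 304000 4000 = true := by decide +kernel
theorem certU_keys77 : certU.keysOK 308000 4000 = true := by decide +kernel

end CfsgLib.Sporadic.CosetCert.J3U
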