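import Cfsg.Agent.Lib.Sporadic.J3Unique.CertData

/-!
# Coset enumeration certificate for the J3 uniqueness presentation, part 6

Machine-generated data and the kernel checks on it.
-/

set_option maxRecDepth 100000

namespace CfsgLib.Sporadic.CosetCert.J3U

theorem certU_keys78 : certU.keysOK 312000 4000 = true := by decide +kernel
theorem certU_keys79 : certU.keysOK 316000 4000 = true := by decide +kernel
theorem certU_keys80 : certU.keysOK 320000 4000 = true := by decide +kernel
theorem certU_keys81 : certU.keysOK 324000 4000 = true := by decide +kernel
theorem certU_keys82 : certU.keysOK 328000 4000 = true := by decide +kernel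
theorem certU_keys83 : certU.keysOK 332000 4000 = true := by decide +kernel
theorem certU_keys84 : certU.keysOK 336000 4000 = true := by decide +kernel
theorem certU_keys85 : certU.keysOK 340000 4000 = true := by decide +kernel
theorem certU_keys86 : certU.keysOK 344000 4000 = true := by decide +kernel
theorem certU_keys87 : certU.keysOK 348000 4000 = true := by decide +kernel
theorem certU_keys88 : certU.keysOK 352000 4000 = true := by decide +kernel
theorem certU_keys89 : certU.keysOK 356000 4000 = true := by decide +kernel
theorem certU_keys90 : certU.keysOK 360000 4000 = true := by decide +kernel

end CfsgLib.Sporadic.CosetCert.J3U
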