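import Cfsg.Agent.Lib.Sporadic.J3Unique.CertData

/-!
# Coset enumeration certificate for the J3 uniqueness presentation, part 7

Machine-generated data and the kernel checks on it.
-/

set_option maxRecDepth 100000

namespace CfsgLib.Sporadic.CosetCert.J3U

theorem certU_keys91 : certU.keysOK 364000 4000 = true := by decide +kernel
theorem certU_keys92 : certU.keysOK 368000 4000 = true := by decide +kernel
theorem certU_keys93 : certU.keysOK 372000 4000 = true := by decide +kernel
theorem certU_keys94 : certU.keysOK 376000 4000 = true := by decide +kernel
theorem certU_keys95 : certU.keysOK 380000 4000 = true := by decide +kernel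
theorem certU_keys96 : certU.keysOK 384000 4000 = true := by decide +kernel
theorem certU_keys97 : certU.keysOK 388000 4000 = true := by decide +kernel
theorem certU_keys98 : certU.keysOK 392000 4000 = true := by decide +kernel
theorem certU_keys99 : certU.keysOK 396000 4000 = true := by decide +kernel
theorem certU_keys100 : certU.keysOK 400000 2395 = true := by decide +kernel

end CfsgLib.Sporadic.CosetCert.J3U
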