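import Cfsg.Agent.Lib.Sporadic.J3Unique.CertKeys0
import Cfsg.Agent.Lib.Sporadic.J3Unique.CertKeys1
import Cfsg.Agent.Lib.Sporadic.J3Unique.CertKeys2
import Cfsg.Agent.Lib.Sporadic.J3Unique.CertKeys3
import Cfsg.Agent.Lib.Sporadic.J3Unique.CertKeys4
import Cfsg.Agent.Lib.Sporadic.J3Unique.CertKeys5
import Cfsg.Agent.Lib.Sporadic.J3Unique.CertKeys6
import Cfsg.Agent.Lib.Sporadic.J3Unique.CertKeys7
import Cfsg.Agent.Lib.Sporadic.J3Unique.CertClosed

/-!
# Coset enumeration certificate for the J3 uniqueness presentation, validity

Machine-generated data and the kernel checks on it.
-/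

set_option maxRecDepth 100000

namespace CfsgLib.Sporadic.CosetCert.J3U

/-- All letters of a word are in range, allowing the empty word. -/
theorem letters_lt {C : Cert}
    (h : ((List.range C.words.length).all fun i =>
      (Nat.beq (C.word i).1 0 && Nat.beq (C.word i).2 0 && Nat.blt 0 C.nl) ||
      (Nat.blt 0 (C.word i).1 && (List.range (C.word i).1).all fun j =>
        Nat.blt (Cert.letterAt (C.word i).1 (C.word i).2 0 j) C.nl)) = true) :
    ∀ i < C.words.length, ∀ o j, Cert.letterAt (C.word i).1 (C.word i).2 o j < C.nl := by
  intro i hi o j
  simp only [List.all_eq_true, List.mem_range, Bool.or_eq_true, Bool.and_eq_true, Nat.blt_eq, Nat.beq_eq] at h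
  rcases h i hi with ⟨⟨h1, h2⟩, h3⟩ | ⟨hpos, hl⟩
  · rw [h1, h2]
    have e : Cert.letterAt 0 0 o j = 0 := by
      show Nat.mod (Nat.shiftRight 0 _) 16 = 0
      simp [Nat.shiftRight_eq]
    rw [e]; exact h3
  · have := hl ((o + j) % (C.word i).1) (Nat.mod_lt _ hpos)
    simp only [Cert.letterAt, Nat.add_eq, zero_add] at this ⊢
    rwa [show Nat.mod ((o + j) % (C.word i).1) (C.word i).1 = Nat.mod (o + j) (C.word i).1 from
      Nat.mod_mod _ _] at this

theorem certU_valid : certU.Valid where
  keys := fun k hk => (range_split (range_split (range_split (range_split (range_split (range_split (range_split (keysOK_spec certU_keys0) (keysOK_spec certU_keys1)) (range_split (keysOK_spec certU_keys2) (keysOK_spec certU_keys3))) (range_split (range_split (keysOK_spec certU_keys4) (keysOK_spec certU_keys5)) (keysOK_spec certU_keys6))) (range_split (range_split (range_split (keysOK_spec certU_keys7) (keysOK_spec certU_keys8)) (keysOK_spec certU_keys9)) (range_split (range_split (keysOK_spec certU_keys10) (keysOK_spec certU_keys11)) (keysOK_spec certU_keys12)))) (range_split (range_split (range_split (range_split (keysOK_spec certU_keys13) (keysOK_spec certU_keys14))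 (range_split (keysOK_spec certU_keys15) (keysOK_spec certU_keys16))) (range_split (range_split (keysOK_spec certU_keys17) (keysOK_spec certU_keys18)) (keysOK_spec certU_keys19))) (range_split (range_split (range_split (keysOK_spec certU_keys20) (keysOK_spec certU_keys21)) (keysOK_spec certU_keys22)) (range_split (range_split (keysOK_spec certU_keys23) (keysOK_spec certU_keys24)) (keysOK_spec certU_keys25))))) (range_split (range_split (range_split (range_split (range_split (keysOK_spec certU_keys26) (keysOK_spec certU_keys27)) (range_split (keysOK_spec certU_keys28) (keysOK_spec certU_keys29))) (range_split (range_split (keysOK_spec certU_keys30) (keysOK_spec certU_keys31)) (keysOK_spec certU_keys32))) (range_split (range_split (range_split (keysOK_spec certU_keys33) (keysOK_spec certU_keys34)) (keysOK_spec certU_keys35)) (range_split (range_split (keysOK_spec certU_keys36) (keysOK_spec certU_keys37)) (keysOK_spec certU_keys38)))) (range_split (range_split (range_split (range_split (keysOK_spec certU_keys39) (keysOK_spec certU_keys40)) (keysOK_spec certU_keys41)) (range_split (range_split (keysOK_spec certU_keys42) (keysOK_spec certU_keys43)) (keysOK_spec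 certU_keys44))) (range_split (range_split (range_split (keysOK_spec certU_keys45) (keysOK_spec certU_keys46)) (keysOK_spec certU_keys47)) (range_split (range_split (keysOK_spec certU_keys48) (keysOK_spec certU_keys49)) (keysOK_spec certU_keys50)))))) (range_split (range_split (range_split (range_split (range_split (range_split (keysOK_spec certU_keys51) (keysOK_spec certU_keys52)) (range_split (keysOK_spec certU_keys53) (keysOK_spec certU_keys54))) (range_split (range_split (keysOK_spec certU_keys55) (keysOK_spec certU_keys56)) (keysOK_spec certU_keys57))) (range_split (range_split (range_split (keysOK_spec certU_keys58) (keysOK_spec certU_keys59)) (keysOK_spec certU_keys60)) (range_split (range_split (keysOK_spec certU_keys61) (keysOK_spec certU_keys62)) (keysOK_spec certU_keys63)))) (range_split (range_split (range_split (range_split (keysOK_spec certU_keys64) (keysOK_spec certU_keys65)) (keysOK_spec certU_keys66)) (range_split (range_split (keysOK_spec certU_keys67) (keysOK_spec certU_keys68)) (keysOK_spec certU_keys69))) (range_split (range_split (range_split (keysOK_spec certU_keys70) (keysOK_spec certU_keys71)) (keysOK_spec certU_keys72)) (range_split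 (range_split (keysOK_spec certU_keys73) (keysOK_spec certU_keys74)) (keysOK_spec certU_keys75))))) (range_split (range_split (range_split (range_split (range_split (keysOK_spec certU_keys76) (keysOK_spec certU_keys77)) (range_split (keysOK_spec certU_keys78) (keysOK_spec certU_keys79))) (range_split (range_split (keysOK_spec certU_keys80) (keysOK_spec certU_keys81)) (keysOK_spec certU_keys82))) (range_split (range_split (range_split (keysOK_spec certU_keys83) (keysOK_spec certU_keys84)) (keysOK_spec certU_keys85)) (range_split (range_split (keysOK_spec certU_keys86) (keysOK_spec certU_keys87)) (keysOK_spec certU_keys88)))) (range_split (range_split (range_split (range_split (keysOK_spec certU_keys89) (keysOK_spec certU_keys90)) (keysOK_spec certU_keys91)) (range_split (range_split (keysOK_spec certU_keys92) (keysOK_spec certU_keys93)) (keysOK_spec certU_keys94))) (range_split (range_split (range_split (keysOK_spec certU_keys95) (keysOK_spec certU_keys96)) (keysOK_spec certU_keys97)) (range_split (range_split (keysOK_spec certU_keys98) (keysOK_spec certU_keys99)) (keysOK_spec certU_keys100))))))) k (Nat.zero_le _) hk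
  closed := fun u hu => ⟨255479, (range_split (range_split (range_split (range_split (closedFrom_spec certU_closed0) (closedFrom_spec certU_closed1)) (closedFrom_spec certU_closed2)) (range_split (closedFrom_spec certU_closed3) (closedFrom_spec certU_closed4))) (range_split (range_split (range_split (closedFrom_spec certU_closed5) (closedFrom_spec certU_closed6)) (closedFrom_spec certU_closed7)) (range_split (closedFrom_spec certU_closed8) (closedFrom_spec certU_closed9)))) u (Nat.zero_le _) hu⟩
  inv_lt := fun x hx => by
    have h : invOK certU = true := by decide +kernel
    simp only [invOK, List.all_eq_true, List.mem_range, Nat.blt_eq] at h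
    exact h x hx
  letter_lt := letters_lt (by decide +kernel)

end CfsgLib.Sporadic.CosetCert.J3U
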