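import Cfsg.Agent.Lib.Sporadic.J3Unique.Words
import Cfsg.Agent.Lib.Sporadic.J3Unique.Cert

/-!
# A group of order `50232960` with generators satisfying the relators is the third Janko group
-/

set_option autoImplicit false
set_option maxRecDepth 100000

open Cfsg.Spor

namespace CfsgLib.Sporadic.CosetCert.J3U

open J3P (Gen code wordOf gens)

theorem mem_nodes (x : Gen) : x ∈ coxNodes edges := by cases x <;> decide

/-- The coding of letters. -/
def coding : Coding edges extra 4 0x43210 where
  lets := gens.map fun x => (x, true)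
  code := code
  cinv := code
  pairs := (List.range 4).flatMap fun i =>
    ((List.range 4).filter fun j => decide (i ≤ j)).map fun j =>
      (gens.getD i Gen.a, gens.getD j Gen.a)
  len := rfl
  code_eq a := by cases a <;> rfl
  cinv_eq a := Or.inr ⟨rfl, mem_nodes a⟩
  inv_eq x hx := by
    refine ⟨gens.getD x Gen.a, Or.inl ?_⟩
    revert x
    decide
  pairs_mem p hp := ⟨mem_nodes _, mem_nodes _⟩
  pairs_cover := by decide +kernel

/-- The subgroup generated by some letters. -/
noncomputable abbrev sub (l : List ℕ) : Subgroup PG := coding.sub l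

/-- All relators. -/
def allRels : List (FreeGroup Gen) := relList edges extra coding.pairs

/-- All relators as words. -/
def allWords : List (List ℕ) := allRels.map (appWord code code)

/-- The relators in some letters only. -/
def relsIn (l : List ℕ) : List (FreeGroup Gen) :=
  allRels.filter fun r => ((appWord code code r).all fun x => decide (x ∈ l)) &&
    (decide (3 ∈ l) || !(appWord code code r).isEmpty)

theorem subsOf_mem {l : List ℕ} (hl : ∀ i ∈ l, i < 4) :
    ∀ r ∈ J3P.subsOf l, PresentedGroup.mk (coxRelators edges ∪ {r | r ∈ extra}) r ∈ sub l := by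
  intro r hr
  obtain ⟨i, hi, rfl⟩ := List.mem_map.1 hr
  refine Subgroup.subset_closure ⟨i, hi, ?_⟩
  have e : i = code (gens.getD i Gen.a) := by
    have h : ∀ j < 4, j = code (gens.getD j Gen.a) := by decide
    exact h i (hl i hi)
  conv_lhs => rw [e]
  exact coding.gen_code _

theorem step {C : Cert} (hV : C.Valid) (hN : 0 < C.N) {n : ℕ} (hn : C.N = n) {σ l : List ℕ}
    (hσ : ∀ x < C.nl, σ.getD x 4 < 4 ∧
      σ.getD (C.inv x) 4 = Nat.mod (Nat.shiftRight 0x43210 (Nat.mul 4 (σ.getD x 4))) 16)
    (hlen : σ.length = C.nl) (hl : ∀ i ∈ l, i < 4)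
    (hrl : (relsIn σ).length = C.nr)
    (hW : (relsIn σ ++ J3P.subsOf l).map (appWord code code) =
      (List.range C.words.length).map fun i => (C.letters i).map (σ.getD · 4)) :
    (sub l).relIndex (sub σ) ≤ n ∧ (sub l).relIndex (sub σ) ≠ 0 := by
  subst hn
  exact coding.relIndex_sub_le C hV hN σ hσ hlen (relsIn σ) (J3P.subsOf l)
    (fun _ hr => mk_relList coding.pairs_mem (List.mem_filter.1 hr).1)
    (coding.wordsOK_of_map_eq hrl hW) (sub l) (subsOf_mem hl)

theorem sub_all : sub [0, 1, 2, 3] = ⊤ := coding.sub_eq_top (by decide)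

theorem card_single : Nat.card (sub [0]) ≤ 2 ∧ Nat.card (sub [0]) ≠ 0 := by
  have e : sub [0] = Subgroup.closure {coding.gen 0} := by
    show Subgroup.closure _ = _
    congr 1
    ext z
    simp [eq_comm]
  rw [e]
  refine card_closure_involution ?_
  have : coding.gen 0 = PresentedGroup.of Gen.a := coding.gen_code Gen.a
  rw [this]
  exact inv_eq_iff_mul_eq_one.1 (node_inv (mem_nodes _))

theorem card_H : Nat.card (sub [0, 1, 2]) ≤ 8160 ∧ Nat.card (sub [0, 1, 2]) ≠ 0 := by
  have h1 : (sub [0]).relIndex (sub [0, 1]) ≤ 17 ∧ (sub [0]).relIndex (sub [0, 1]) ≠ 0 :=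
    step J3Data.certD_valid (by decide +kernel) rfl (by decide +kernel) rfl (by decide)
      (by decide +kernel) (by decide +kernel)
  have h2 : (sub [0, 1]).relIndex (sub [0, 1, 2]) ≤ 240 ∧
      (sub [0, 1]).relIndex (sub [0, 1, 2]) ≠ 0 :=
    step J3Data.certH_valid (by decide +kernel) rfl (by decide +kernel) rfl (by decide)
      (by decide +kernel) (by decide +kernel)
  exact card_le_of_relIndex (coding.sub_mono (by decide)) h2
    (card_le_of_relIndex (coding.sub_mono (by decide)) h1 card_single)

theorem index_H : (sub [0, 1, 2]).index ≤ 18468 ∧ (sub [0, 1, 2]).index ≠ 0 := by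
  have := step (σ := [0, 1, 2, 3]) (l := [0, 1, 2]) certU_valid
    (by decide +kernel) (n := 18468) rfl (by decide +kernel) rfl (by decide) (by decide +kernel)
    (by decide +kernel)
  rwa [sub_all, Subgroup.relIndex_top_right] at this

theorem card_le : Nat.card PG ≤ 150698880 ∧ Nat.card PG ≠ 0 := by
  have h := (sub [0, 1, 2]).card_mul_index
  rw [← h]
  refine ⟨?_, mul_ne_zero card_H.2 index_H.2⟩
  exact (Nat.mul_le_mul card_H.1 index_H.1).trans (by norm_num)

theorem finite : Finite PG := Nat.finite_of_card_ne_zero card_le.2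

section Lift

variable {H : Type*} [Group H] {g : ℕ → H}

theorem code_lt : ∀ x : Gen, code x < 4 := by intro x; cases x <;> decide

/-- The homomorphism of letters satisfying all relators. -/
theorem exists_lift (hinv : ∀ x < 4, g x * g x = 1) (hrel : ∀ w ∈ allWords, appProd g w = 1) :
    ∃ φ : PG →* H, ∀ x, φ (PresentedGroup.of x) = g (code x) := by
  have hl : ∀ r ∈ coxRelators edges ∪ {r | r ∈ extra}, FreeGroup.lift (fun x => g (code x)) r = 1 := by
    refine lift_cox_eq_one _ (pairs := coding.pairs) coding.pairs_cover fun r hr => ?_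
    rw [lift_eq_appProd (fun x => g (code x)) g code code (fun _ => rfl)
      (fun x => (inv_eq_of_mul_eq_one_right (hinv _ (code_lt x))).symm) r]
    exact hrel _ (List.mem_map.2 ⟨r, hr, rfl⟩)
  exact ⟨PresentedGroup.toGroup hl, fun x => PresentedGroup.toGroup.of hl⟩

end Lift

/-- The map onto the presented simple group. -/
theorem exists_onto : ∃ ψ : PG →* J3P.PG, Function.Surjective ψ := by
  have hinv : ∀ x < 4, J3P.coding.gen x * J3P.coding.gen x = 1 := by
    intro x hx
    have e : x = code (gens.getD x Gen.a) := by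
      have h : ∀ j < 4, j = code (gens.getD j Gen.a) := by decide
      exact h x hx
    have hg : J3P.coding.gen (code (gens.getD x Gen.a)) = PresentedGroup.of (gens.getD x Gen.a) :=
      J3P.coding.gen_code _
    rw [e, hg]
    exact inv_eq_iff_mul_eq_one.1 (node_inv (J3P.mem_nodes _))
  have hchk : ∀ w ∈ allWords, (∀ x ∈ w, x < J3Data.table.nl) ∧
      ∀ v ∈ ([0, 2, 1, 3] : List ℕ), w.foldl (fun u x => J3Data.table.img x u) v = v := by
    decide +kernel
  obtain ⟨ψ, hψ⟩ := exists_lift hinv (fun w hw => J3P.eq_one_of_fix _ fun u hu => Fin.ext (by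
    rw [J3P.hom_word _ (hchk w hw).1 u]
    exact (hchk w hw).2 u (by simpa using hu)))
  refine ⟨ψ, MonoidHom.range_eq_top.1 (top_unique ?_)⟩
  rw [← PresentedGroup.closure_range_of, Subgroup.closure_le]
  rintro _ ⟨x, rfl⟩
  exact ⟨PresentedGroup.of x, (hψ x).trans (J3P.coding.gen_code x)⟩

/-- Recognition by the relators. -/
theorem iso_of_gens {G : Type*} [Group G] [Finite G] (hcard : Nat.card G = 50232960) (g : ℕ → G)
    (hinv : ∀ x < 4, g x * g x = 1) (hrel : ∀ w ∈ allWords, appProd g w = 1) (hne : g 1 * g 0 ≠ 1) :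
    Nonempty (G ≃* J3P.PG) := by
  haveI := finite
  haveI : Fact (Nat.Prime 17) := ⟨by norm_num⟩
  haveI := J3P.finite
  haveI := J3P.isSimple
  obtain ⟨φ, hφ⟩ := exists_lift hinv hrel
  obtain ⟨ψ, hψ⟩ := exists_onto
  let K := (ψ.ker).map φ.rangeRestrict
  haveI : K.Normal := Subgroup.Normal.map inferInstance _ φ.rangeRestrict_surjective
  have hK : Nat.card K ≤ 3 := by
    refine le_trans (Nat.le_of_dvd Nat.card_pos (Subgroup.card_map_dvd _ _)) ?_
    have h1 := ψ.ker.card_mul_index
    rw [Subgroup.index_ker, MonoidHom.range_eq_top.2 hψ, Subgroup.card_top, J3P.card_eq.1] at h1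
    have := card_le.1
    omega
  let f : PG →* φ.range ⧸ K := (QuotientGroup.mk' K).comp φ.rangeRestrict
  have hf : Function.Surjective f :=
    (QuotientGroup.mk'_surjective K).comp φ.rangeRestrict_surjective
  have hker : ψ.ker ≤ f.ker := fun k hk => (QuotientGroup.eq_one_iff _).2 ⟨k, hk, rfl⟩
  let q : J3P.PG →* φ.range ⧸ K := ψ.liftOfSurjective hψ ⟨f, hker⟩
  have hq : ∀ z, q (ψ z) = f z := fun z => ψ.liftOfRightInverse_comp_apply _ _ _ z
  have hqs : Function.Surjective q := fun y => by
    obtain ⟨z, rfl⟩ := hf y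
    exact ⟨ψ z, hq z⟩
  have h17 : appProd g (List.replicate 17 [0, 1]).flatten = 1 ∨
      appProd g (List.replicate 17 [1, 0]).flatten = 1 := by
    have : (List.replicate 17 [1, 0]).flatten ∈ allWords := by decide +kernel
    exact Or.inr (hrel _ this)
  -- an element of order seventeen survives
  let z : PG := PresentedGroup.of Gen.a * PresentedGroup.of Gen.b
  have hzφ : φ z = g 0 * g 1 := by rw [map_mul, hφ, hφ]; rfl
  have hz17 : (φ z) ^ 17 = 1 := by
    rw [hzφ]
    rcases h17 with e | e <;> rw [appProd_replicate] at e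
    · have e' : (g 1 * g 0) ^ 17 = 1 := by simpa [appProd] using e
      have hc := conj_pow (i := 17) (a := g 0) (b := g 1 * g 0)
      rw [e'] at hc
      rw [show g 0 * g 1 = g 0 * (g 1 * g 0) * (g 0)⁻¹ by group, hc]
      group
    · simpa [appProd] using e
  have hzo : orderOf (φ z) = 17 := by
    refine orderOf_eq_prime hz17 fun e => hne ?_
    rw [hzφ] at e
    have h01 : g 1 = g 0 :=
      (eq_inv_of_mul_eq_one_right e).trans (inv_eq_of_mul_eq_one_right (hinv 0 (by norm_num)))
    rw [h01]; exact hinv 0 (by norm_num)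
  have hqi : Function.Injective q := by
    rw [← MonoidHom.ker_eq_bot_iff]
    refine (Subgroup.Normal.eq_bot_or_eq_top (inferInstance : q.ker.Normal)).resolve_right fun htop => ?_
    have h1 : f z = 1 := by rw [← hq]; exact htop.ge (Subgroup.mem_top _)
    have h2 := Subgroup.orderOf_dvd_natCard K ((QuotientGroup.eq_one_iff _).1 h1)
    rw [← Subgroup.orderOf_coe, show ((φ.rangeRestrict z : φ.range) : G) = φ z from rfl, hzo] at h2
    have := Nat.le_of_dvd Nat.card_pos h2
    omega
  let e := MulEquiv.ofBijective q ⟨hqi, hqs⟩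
  have hcR : Nat.card φ.range ≤ 50232960 := hcard ▸ Subgroup.card_le_card_group _
  have hKi := K.card_mul_index
  rw [Subgroup.index, ← Nat.card_congr e.toEquiv, J3P.card_eq.1] at hKi
  have hK1 : Nat.card K = 1 := by
    have : 0 < Nat.card K := Nat.card_pos
    nlinarith
  rw [hK1, one_mul] at hKi
  have hR : φ.range = ⊤ := Subgroup.eq_top_of_card_eq _ (hKi.symm.trans hcard.symm)
  have hKb : K = ⊥ := Subgroup.card_eq_one.1 hK1
  exact ⟨((MulEquiv.subgroupCongr hR).trans Subgroup.topEquiv).symm.trans
    ((QuotientGroup.quotientBot.symm.trans (QuotientGroup.quotientMulEquivOfEq hKb.symm)).trans e.symm)⟩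

end CfsgLib.Sporadic.CosetCert.J3U
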