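import Cfsg.Agent.Lib.Sporadic.J3Unique.CertData

/-!
# Coset enumeration certificate for the J3 uniqueness presentation, part 0

Machine-generated data and the kernel checks on it.
-/

set_option maxRecDepth 100000

namespace CfsgLib.Sporadic.CosetCert.J3U

theorem certU_keys0 : certU.keysOK 0 4000 = true := by decide +kernel
theorem certU_keys1 : certU.keysOK 4000 4000 = true := by decide +kernel
theorem certU_keys2 : certU.keysOK 8000 4000 = true := by decide +kernel
theorem certU_keys3 : certU.keysOK 12000 4000 = true := by decide +kernel
theorem certU_keys4 : certU.keysOK 16000 4000 = true := by decide +kernel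
theorem certU_keys5 : certU.keysOK 20000 4000 = true := by decide +kernel
theorem certU_keys6 : certU.keysOK 24000 4000 = true := by decide +kernel
theorem certU_keys7 : certU.keysOK 28000 4000 = true := by decide +kernel
theorem certU_keys8 : certU.keysOK 32000 4000 = true := by decide +kernel
theorem certU_keys9 : certU.keysOK 36000 4000 = true := by decide +kernel
theorem certU_keys10 : certU.keysOK 40000 4000 = true := by decide +kernel
theorem certU_keys11 : certU.keysOK 44000 4000 = true := by decide +kernel
theorem certU_keys12 : certU.keysOK 48000 4000 = true := by decide +kernel

end CfsgLib.Sporadic.CosetCert.J3U
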