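import Cfsg.Agent.Lib.Sporadic.J3Presented

/-!
# A presentation of `3·J₃` from the local subgroups of a group of J₃ type

The letters are four involutions `a, b, c, d`, with `a, b, c` generating `L₂(16):2` and `v = a d` an involution
of the centraliser of `c` and of an element of order three in the normaliser of a four by four elementary abelian
subgroup. The relators are listed as composite words, in order of application.
-/

set_option autoImplicit false
set_option maxRecDepth 100000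

open Cfsg.Spor

namespace CfsgLib.Sporadic.CosetCert.J3U

open J3P (Gen code wordOf gens)

/-- The word of `v`. -/
def vW : List ℕ := [0, 3]

/-- The word of the element of order three. -/
def cW : List ℕ := [1, 0, 1, 0, 1, 0, 1, 0, 1, 2, 1, 0, 1, 0, 1, 0, 1, 0, 2, 1]

/-- The word of the element of order five. -/
def fW : List ℕ := [0, 1, 2, 1, 0, 2, 1, 0, 1, 0, 1, 0, 1, 2, 1, 0, 1, 2, 1]

/-- The word of its square. -/
def f2W : List ℕ := [0, 1, 0, 1, 0, 2, 1, 0, 1, 0, 2, 1, 0, 1, 0, 2, 1, 0, 1, 0, 2]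

/-- The word of the element of order five times the third letter. -/
def ftW : List ℕ := [0, 1, 2, 1, 0, 1, 0, 1, 0, 1, 0, 1, 2, 1, 0, 1, 2, 1]

/-- The words of the fifteen involutions of the elementary abelian group. -/
def eW : List (List ℕ) :=
  [[0],
   [0, 1, 0, 1, 0, 1, 0, 1, 0, 1, 0, 2, 1, 0, 1, 0, 2, 1, 0, 1, 0, 1, 0, 1, 0, 1],
   [1, 2, 1, 0, 1, 2, 1, 0, 1, 0, 1, 2, 1, 0, 1, 2, 1],
   [0, 1, 2, 1, 0, 1, 0, 1, 0, 1, 0, 1, 0, 1, 0, 1, 2, 1],
   [1, 0, 1, 0, 1, 0, 1, 0, 1, 0, 2, 1, 0, 1, 0, 2, 1, 0, 1, 0, 1, 0, 1, 0, 1],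
   [0, 1, 0, 1, 2, 1, 0, 1, 0, 1, 0, 1, 2, 1, 0, 1, 0, 1, 0, 1, 2, 1, 0, 1, 2],
   [2, 1, 0, 1, 0, 2, 1, 0, 1, 0, 1, 0, 1, 0, 2, 1, 0, 1, 2],
   [0, 1, 0, 1, 0, 2, 1, 0, 1, 0, 1, 0, 1, 0, 2, 1, 0, 1],
   [0, 1, 2, 1, 0, 1, 2, 1, 0, 1, 0, 1, 2, 1, 0, 1, 2, 1],
   [1, 0, 1, 0, 2, 1, 0, 1, 0, 1, 0, 1, 0, 2, 1, 0, 1],
   [1, 0, 1, 2, 1, 0, 1, 0, 1, 0, 1, 2, 1, 0, 1, 0, 1, 0, 1, 2, 1, 0, 1, 2],
   [1, 2, 1, 0, 2, 1, 0, 1, 0, 1, 0, 1, 0, 1, 0, 1, 2, 1, 2],
   [0, 1, 2, 1, 0, 2, 1, 0, 1, 0, 1, 0, 1, 0, 1, 0, 1, 2, 1, 2],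
   [0, 2, 1, 0, 1, 0, 2, 1, 0, 1, 0, 1, 0, 1, 0, 2, 1, 0, 1, 2],
   [1, 2, 1, 0, 1, 0, 1, 0, 1, 0, 1, 0, 1, 0, 1, 2, 1]]

/-- The action of `v` on them. -/
def vAct : List ℕ := [0, 8, 4, 11, 2, 5, 13, 9, 1, 7, 10, 3, 14, 6, 12]

/-- Five elements moving `v` to its five conjugates modulo the centre. -/
def kW : List (List ℕ) :=
  [[],
   [1, 2, 1],
   [1, 2, 1, 0],
   [1, 2, 1, 0, 1, 2, 1],
   [1, 2, 1, 0, 1, 2, 1, 0]]

/-- An element moving `v` to its second conjugate. -/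
def ksW : List ℕ := [1, 2, 1]

/-- Free reduction for involutions. -/
def red (w : List ℕ) : List ℕ :=
  (w.foldl (fun o k => match o with
    | [] => [k]
    | h :: r => if h = k then r else k :: o) []).reverse

/-- The conjugates of `v`. -/
def qW (i : ℕ) : List ℕ := (kW.getD i []).reverse ++ vW ++ kW.getD i []

/-- The second conjugate. -/
def sW : List ℕ := ksW.reverse ++ vW ++ ksW

/-- Concatenation of copies. -/
def rep (n : ℕ) (w : List ℕ) : List ℕ := (List.replicate n w).flatten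

/-- The pairs of distinct conjugates. -/
def qPairs : List (ℕ × ℕ) := [(0, 1), (0, 2), (0, 3), (0, 4), (1, 2), (1, 3), (1, 4), (2, 3), (2, 4), (3, 4)]

/-- The composite relators. -/
def semWords : List (List ℕ) :=
  [cW ++ vW ++ cW.reverse ++ vW] ++
  ((List.range 14).map fun k => vW ++ eW.getD (k + 1) [] ++ vW ++ eW.getD (vAct.getD (k + 1) 0) []) ++
  [rep 3 (f2W ++ vW)] ++
  (qPairs.map fun p => qW p.2 ++ qW p.1 ++ qW p.2 ++ qW p.1 ++ [2]) ++
  [rep 5 (fW ++ sW ++ vW), rep 3 (sW ++ ftW)]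

/-- The further relators. -/
def extraWords : List (List ℕ) := J3P.extraWords.take 2 ++ semWords.map red

/-- The further relators as free group elements. -/
def extra : List (FreeGroup Gen) := extraWords.map wordOf

/-- The labelled pairs; the label zero imposes nothing. -/
def edges : List (Gen × ℕ × Gen) := [(.a, 17, .b), (.b, 4, .c), (.b, 0, .d)]

/-- The presented group. -/
abbrev PG : Type := CoxPresented Gen edges extra

end CfsgLib.Sporadic.CosetCert.J3U
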