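import Cfsg.Agent.Lib.Sporadic.J3Linear.Data
import Cfsg.Agent.Lib.Sporadic.J3Unique.Words

/-!
# The involution `v` in the model of the centraliser of an involution
-/

set_option autoImplicit false
set_option maxRecDepth 100000

namespace CfsgLib.Sporadic.J3Unique

open CfsgLib.SmallGroups.J3Order (mul)
open CfsgLib.Sporadic.J3Linear.Data (cL fL)

/-- Five elements over the generators `u, c, s, t` (coded `0` to `3`), written from left to right. -/
def kStr : List (List ℕ) := [[], [1, 2, 3], [0, 1, 2, 3], [1, 2, 0, 1, 2], [0, 1, 2, 0, 1, 2]]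

/-- The inverse string. -/
def invStr (l : List ℕ) : List ℕ := l.reverse.flatMap fun c => if c = 1 then [1, 1] else [c]

/-- The generators in the model. -/
def genIx (p : List ℕ) : ℕ → ℕ
  | 0 => p.getD 4 0
  | 1 => 2
  | 2 => p.getD 3 0
  | _ => 960

/-- A string in the model. -/
def strIx (p : List ℕ) (l : List ℕ) : ℕ := l.foldl (fun z c => mul z (genIx p c)) 0

/-- A conjugate of `x` in the model. -/
def qIx (p : List ℕ) (x i : ℕ) : ℕ := mul (mul (strIx p (kStr.getD i [])) x) (strIx p (invStr (kStr.getD i [])))

/-- The candidates for `v`. -/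
def cand (p : List ℕ) : List ℕ :=
  cL.filter fun q => mul q q == 0 && !(q == 0) && !(q == 960) && mul q (p.getD 0 0) == mul (p.getD 0 0) q &&
    mul q (p.getD 1 0) == mul (p.getD 1 0) q

theorem cand_spec : (fL.all fun p =>
    (cL.all fun q => !(mul (mul q q) (mul q q) == 0) ||
      !([p.getD 0 0, p.getD 1 0, p.getD 2 0].any fun x => mul q (p.getD 0 0) == mul x q) ||
      q == 0 || q == 960 || (cand p).contains q) &&
    (cand p).all fun x =>
      decide (x < 1920) && mul x x == 0 && !(x == 0) && !(x == 960) && mul x 2 == mul 2 x &&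
      mul x (p.getD 4 0) == mul (p.getD 4 0) x && (cand p).contains (mul x 960) &&
      (let y := mul (mul (p.getD 3 0) x) (p.getD 3 0); let z := mul x y; mul z z == 960) &&
      CfsgLib.Sporadic.CosetCert.J3U.qPairs.all fun ij =>
        let z := mul (qIx p x ij.1) (qIx p x ij.2)
        mul 960 (mul z z) == 0) = true := by
  decide +kernel

/-- Elements of the model centralising an elementary abelian subgroup of order sixteen lie in it. -/
theorem e0_self : ((List.range 1920).all fun q =>
    !(CfsgLib.Sporadic.J3Linear.Data.e0.all fun x => mul q x == mul x q) ||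
      CfsgLib.Sporadic.J3Linear.Data.e0.contains q) = true := by
  decide +kernel

end CfsgLib.Sporadic.J3Unique
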