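import Cfsg.Agent.Lib.Sporadic.CosetCertCox
import Mathlib

/-!
# Arithmetic in `L₂(16):2` inside a group

An elementary abelian group with an element `d` of order dividing fifteen acting as multiplication by a root of
`x⁴ + x + 1`, an involution `s` inverting `d`, and an involution `t` inducing the square of the Frobenius map.
Elements are recorded as `x dⁱ tᵉ` or `x dⁱ s y tᵉ`.
-/

set_option autoImplicit false
set_option maxRecDepth 100000

namespace CfsgLib.Sporadic.J3Unique

open CfsgLib.Sporadic.CosetCert (appProd appProd_append)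

/-- The powers of the root, as bit vectors. -/
def pwL : List ℕ := [1, 2, 4, 8, 3, 6, 12, 11, 5, 10, 7, 14, 15, 13, 9]

/-- The power `xᵏ`. -/
def pw (k : ℕ) : ℕ := pwL.getD (k % 15) 0

/-- The logarithm of a nonzero vector. -/
def lg (x : ℕ) : ℕ := pwL.findIdx (· == x)

/-- Multiplication by `xⁱ`. -/
def sh (x i : ℕ) : ℕ := if x = 0 then 0 else pw (lg x + i)

/-- The fourth power. -/
def sq (x : ℕ) : ℕ := if x = 0 then 0 else pw (4 * lg x)

theorem pw_lt (k : ℕ) : pw k < 16 := by
  have h : ∀ j < 15, pwL.getD j 0 < 16 := by decide +kernel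
  exact h _ (Nat.mod_lt _ (by norm_num))

theorem pw_ne (k : ℕ) : pw k ≠ 0 := by
  have h : ∀ j < 15, pwL.getD j 0 ≠ 0 := by decide +kernel
  exact h _ (Nat.mod_lt _ (by norm_num))

theorem xor_lt {x y : ℕ} (hx : x < 16) (hy : y < 16) : x ^^^ y < 16 := Nat.xor_lt_two_pow (n := 4) hx hy

theorem sh_lt (x i : ℕ) : sh x i < 16 := by
  rw [sh]; split_ifs
  · norm_num
  · exact pw_lt _

theorem sq_lt (x : ℕ) : sq x < 16 := by
  rw [sq]; split_ifs
  · norm_num
  · exact pw_lt _

variable {G : Type*} [Group G]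

/-- The hypotheses on four elements `u, d, s, t`. -/
structure Ctx (u d s t : G) : Prop where
  u2 : u * u = 1
  d15 : d ^ 15 = 1
  s2 : s * s = 1
  t2 : t * t = 1
  comm : ∀ i j : ℕ, Commute (d ^ i * u * (d ^ i)⁻¹) (d ^ j * u * (d ^ j)⁻¹)
  poly : u * (d * u * d⁻¹) = d ^ 4 * u * (d ^ 4)⁻¹
  sds : s * d * s = d⁻¹
  sus : s * u * s = u * s * u
  tut : t * u = u * t
  tdt : t * d * t = d ^ 4
  tst : t * s = s * t

variable {u d s t : G}

/-- The involutions of the elementary abelian group. -/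
def e (u d : G) (k : ℕ) : G := d ^ k * u * (d ^ k)⁻¹

/-- The element with given coordinates. -/
def val (u d : G) (x : ℕ) : G :=
  (if x.testBit 0 then e u d 0 else 1) * (if x.testBit 1 then e u d 1 else 1) *
    (if x.testBit 2 then e u d 2 else 1) * (if x.testBit 3 then e u d 3 else 1)

namespace Ctx

variable (C : Ctx u d s t)

theorem e_zero (u d : G) : e u d 0 = u := by simp [e]

theorem e_sq (C : Ctx u d s t) (k : ℕ) : e u d k * e u d k = 1 := by
  rw [show e u d k * e u d k = d ^ k * (u * u) * (d ^ k)⁻¹ by simp only [e]; group, C.u2]; group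

theorem dpow_mod (C : Ctx u d s t) (k : ℕ) : d ^ (k % 15) = d ^ k := by
  conv_rhs => rw [← Nat.mod_add_div k 15, pow_add, pow_mul, C.d15, one_pow, mul_one]

theorem e_mod (C : Ctx u d s t) (k : ℕ) : e u d (k % 15) = e u d k := by
  rw [e, C.dpow_mod]; rfl

theorem conj_e (i k : ℕ) : d ^ i * e u d k * (d ^ i)⁻¹ = e u d (k + i) := by
  rw [e, e, show k + i = i + k by omega, pow_add]; group

theorem e_rec (C : Ctx u d s t) (j : ℕ) : e u d (j + 4) = e u d j * e u d (j + 1) := by
  have h : e u d 0 * e u d 1 = e u d 4 := by simp only [e]; simpa using C.poly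
  rw [show j + 4 = 4 + j by omega, show j + 1 = 1 + j by omega]
  calc e u d (4 + j) = d ^ j * (e u d 0 * e u d 1) * (d ^ j)⁻¹ := by rw [h, conj_e]
    _ = (d ^ j * e u d 0 * (d ^ j)⁻¹) * (d ^ j * e u d 1 * (d ^ j)⁻¹) := by group
    _ = _ := by rw [conj_e, conj_e, zero_add]

theorem bit_comm (C : Ctx u d s t) (a b : Bool) (i j : ℕ) :
    Commute (if a then e u d i else 1) (if b then e u d j else 1) := by
  cases a <;> cases b <;> simp [C.comm i j, e]

theorem bit_xor (C : Ctx u d s t) (a b : Bool) (i : ℕ) :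
    (if a then e u d i else 1) * (if b then e u d i else 1) = if (a ^^ b) then e u d i else 1 := by
  cases a <;> cases b <;> simp [C.e_sq]

theorem val_xor (C : Ctx u d s t) (x y : ℕ) : val u d (x ^^^ y) = val u d x * val u d y := by
  have h4 : ∀ {a b c f a' b' c' f' : G}, Commute a' b → Commute a' c → Commute a' f → Commute b' c → Commute b' f →
      Commute c' f → a * b * c * f * (a' * b' * c' * f') = a * a' * (b * b') * (c * c') * (f * f') := by
    intro a b c f a' b' c' f' h1 h2 h3 h4 h5 h6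
    calc a * b * c * f * (a' * b' * c' * f') = a * b * c * (f * a') * b' * c' * f' := by group
      _ = a * b * (c * a') * f * b' * c' * f' := by rw [← h3.eq]; group
      _ = a * (b * a') * c * f * b' * c' * f' := by rw [← h2.eq]; group
      _ = a * a' * b * c * (f * b') * c' * f' := by rw [← h1.eq]; group
      _ = a * a' * b * (c * b') * f * c' * f' := by rw [← h5.eq]; group
      _ = a * a' * b * b' * c * (f * c') * f' := by rw [← h4.eq]; group
      _ = _ := by rw [← h6.eq]; group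
  simp only [val]
  rw [h4 (C.bit_comm _ _ _ _) (C.bit_comm _ _ _ _) (C.bit_comm _ _ _ _) (C.bit_comm _ _ _ _)
    (C.bit_comm _ _ _ _) (C.bit_comm _ _ _ _), C.bit_xor, C.bit_xor, C.bit_xor, C.bit_xor]
  simp only [Nat.testBit_xor]

theorem val_zero (u d : G) : val u d 0 = 1 := by simp [val]

theorem val_pw (C : Ctx u d s t) : ∀ k, val u d (pw k) = e u d k := by
  have h : ∀ k < 15, val u d (pw k) = e u d k := by
    intro k
    induction k using Nat.strong_induction_on with
    | _ k ih =>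
      intro hk
      by_cases h4 : k < 4
      · interval_cases k <;> simp +decide [val, pw, pwL]
      · obtain ⟨j, rfl⟩ : ∃ j, k = j + 4 := ⟨k - 4, by omega⟩
        have hp : ∀ j < 11, pw (j + 4) = pw j ^^^ pw (j + 1) := by decide +kernel
        rw [hp j (by omega), C.val_xor, ih j (by omega) (by omega), ih (j + 1) (by omega) (by omega), C.e_rec]
  intro k
  rw [← C.e_mod k, ← h _ (Nat.mod_lt _ (by norm_num))]
  congr 1
  simp [pw, Nat.mod_mod]

theorem pw_lg : ∀ x < 16, x ≠ 0 → pw (lg x) = x ∧ lg x < 15 := by decide +kernel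

theorem val_eq_e (C : Ctx u d s t) {x : ℕ} (hx : x < 16) (h0 : x ≠ 0) : val u d x = e u d (lg x) := by
  rw [← C.val_pw, (pw_lg x hx h0).1]

theorem conj_val (C : Ctx u d s t) (i : ℕ) {x : ℕ} (hx : x < 16) :
    d ^ i * val u d x = val u d (sh x i) * d ^ i := by
  by_cases h0 : x = 0
  · simp [h0, sh, val_zero]
  · rw [C.val_eq_e hx h0, sh, if_neg h0, C.val_pw, ← conj_e]; group

theorem t_e (C : Ctx u d s t) (k : ℕ) : t * e u d k * t = e u d (4 * k) := by
  have hti : t⁻¹ = t := inv_eq_of_mul_eq_one_right C.t2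
  have h : ∀ i, t * d ^ i * t = d ^ (4 * i) := fun i => by
    nth_rewrite 2 [← hti]
    rw [← conj_pow, hti, C.tdt, ← pow_mul]
  have hu : t * u * t = u := by rw [C.tut, mul_assoc, C.t2, mul_one]
  calc t * e u d k * t = (t * d ^ k * t⁻¹) * (t * u * t⁻¹) * (t * d ^ k * t⁻¹)⁻¹ * (t * t) := by rw [e]; group
    _ = _ := by rw [hti, h, hu, C.t2, mul_one, e]

theorem t_dpow (C : Ctx u d s t) (i : ℕ) : t * d ^ i * t = d ^ (4 * i) := by
  have hti : t⁻¹ = t := inv_eq_of_mul_eq_one_right C.t2
  nth_rewrite 2 [← hti]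
  rw [← conj_pow, hti, C.tdt, ← pow_mul]

theorem t_val (C : Ctx u d s t) {x : ℕ} (hx : x < 16) : t * val u d x * t = val u d (sq x) := by
  by_cases h0 : x = 0
  · simp [h0, sq, val_zero, C.t2]
  · rw [C.val_eq_e hx h0, C.t_e, sq, if_neg h0, C.val_pw]

theorem dinv (C : Ctx u d s t) (i : ℕ) : (d ^ i)⁻¹ = d ^ (14 * i % 15) := by
  rw [C.dpow_mod]
  refine inv_eq_of_mul_eq_one_right ?_
  rw [← pow_add, show i + 14 * i = 15 * i by ring, pow_mul, C.d15, one_pow]

theorem s_dpow (C : Ctx u d s t) (i : ℕ) : s * d ^ i = (d ^ i)⁻¹ * s := by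
  have hsi : s⁻¹ = s := inv_eq_of_mul_eq_one_right C.s2
  have h : s * d ^ i * s⁻¹ = (d ^ i)⁻¹ := by rw [← conj_pow, hsi, C.sds, inv_pow]
  exact mul_inv_eq_iff_eq_mul.1 h

theorem s_e (C : Ctx u d s t) (k : ℕ) :
    s * e u d k * s = e u d (14 * k % 15) * d ^ (13 * k % 15) * s * e u d (14 * k % 15) := by
  have h1 : d ^ (14 * k % 15) = (d ^ k)⁻¹ := (C.dinv k).symm
  have h2 : d ^ (13 * k % 15) = (d ^ k)⁻¹ * (d ^ k)⁻¹ := by
    rw [← h1, ← pow_add, C.dpow_mod, ← C.dpow_mod (14 * k % 15 + 14 * k % 15), ← C.dpow_mod (13 * k)]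
    congr 1
    omega
  have hs : s * (d ^ k)⁻¹ = d ^ k * s := by
    calc s * (d ^ k)⁻¹ = s * ((d ^ k)⁻¹ * s) * s := by rw [mul_assoc, mul_assoc, C.s2, mul_one]
      _ = s * (s * d ^ k) * s := by rw [C.s_dpow]
      _ = _ := by rw [← mul_assoc s s, C.s2, one_mul]
  rw [h2]
  simp only [e, h1, inv_inv]
  calc s * (d ^ k * u * (d ^ k)⁻¹) * s = (s * d ^ k) * u * ((d ^ k)⁻¹ * s) := by group
    _ = (d ^ k)⁻¹ * (s * u * s) * d ^ k := by rw [← C.s_dpow k, C.s_dpow k]; nth_rewrite 2 [← C.s_dpow k]; group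
    _ = (d ^ k)⁻¹ * u * (d ^ k) * ((d ^ k)⁻¹ * s) * u * d ^ k := by rw [C.sus]; group
    _ = (d ^ k)⁻¹ * u * (d ^ k) * ((d ^ k)⁻¹ * (d ^ k)⁻¹) * (d ^ k * s) * u * d ^ k := by group
    _ = _ := by rw [← hs]; group

end Ctx

/-- A coded element `x dⁱ tᵉ` or `x dⁱ s y tᵉ`. -/
structure Nf where
  big : Bool
  x : ℕ
  i : ℕ
  y : ℕ
  τ : Bool
deriving DecidableEq, Repr

namespace Nf

/-- The identity. -/
def one : Nf := ⟨false, 0, 0, 0, false⟩

/-- Well-formed codes. -/
def OK (z : Nf) : Prop := z.x < 16 ∧ z.y < 16 ∧ (z.big = false → z.y = 0)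

/-- The coded element. -/
def val (u d s t : G) (z : Nf) : G :=
  (J3Unique.val u d z.x * d ^ z.i * if z.big then s * J3Unique.val u d z.y else 1) * if z.τ then t else 1

/-- Multiplication by `eₖ` on the right. -/
def mulE (z : Nf) (k : ℕ) : Nf :=
  let k := if z.τ then 4 * k else k
  bif z.big then { z with y := z.y ^^^ pw k } else { z with x := z.x ^^^ pw (k + z.i) }

/-- Multiplication by `dᵐ` on the right. -/
def mulD (z : Nf) (m : ℕ) : Nf :=
  let m := (if z.τ then 4 * m else m) % 15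
  bif z.big then { z with i := (z.i + 14 * m) % 15, y := sh z.y (14 * m % 15) } else { z with i := (z.i + m) % 15 }

/-- Multiplication by `s` on the right. -/
def mulS (z : Nf) : Nf :=
  bif z.big then
    if z.y = 0 then { z with big := false }
    else { z with x := z.x ^^^ pw (14 * lg z.y % 15 + z.i), i := (z.i + 13 * lg z.y % 15) % 15, y := pw (14 * lg z.y % 15) }
  else { z with big := true }

/-- Multiplication by `t` on the right. -/
def mulT (z : Nf) : Nf := { z with τ := !z.τ }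

/-- Multiplication by one of the first three letters on the right. -/
def mulL (z : Nf) : ℕ → Nf
  | 0 => z.mulE 0
  | 1 => (((z.mulE 11).mulD 6).mulS).mulE 11
  | _ => z.mulT

/-- The code of a word in order of application. -/
def ofWord (w : List ℕ) : Nf := w.foldr (fun l z => z.mulL l) one

theorem mulE_spec (C : Ctx u d s t) {z : Nf} (hz : z.OK) (k : ℕ) :
    (z.mulE k).OK ∧ (z.mulE k).val u d s t = z.val u d s t * e u d k := by
  obtain ⟨b, x, i, y, τ⟩ := z
  obtain ⟨hx, hy, hb⟩ := hz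
  simp only at hx hy hb
  have hte : (if τ then t else 1) * e u d k = e u d (if τ then 4 * k else k) * if τ then t else 1 := by
    cases τ
    · simp
    · simp only [if_true]
      calc t * e u d k = t * e u d k * (t * t) := by rw [C.t2, mul_one]
        _ = _ := by rw [← mul_assoc, C.t_e]
  cases b
  · refine ⟨⟨xor_lt hx (pw_lt _), hy, hb⟩, ?_⟩
    simp only [mulE, cond_false, val, Bool.false_eq_true, if_false, mul_one]
    rw [C.val_xor, C.val_pw, ← Ctx.conj_e, mul_assoc (J3Unique.val u d x * d ^ i), hte]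
    simp only [mul_assoc, inv_mul_cancel, mul_one]
    rfl
  · refine ⟨⟨hx, xor_lt hy (pw_lt _), fun h => absurd h (by simp [mulE])⟩, ?_⟩
    simp only [mulE, cond_true, val, if_true]
    rw [C.val_xor, C.val_pw, mul_assoc (J3Unique.val u d x * d ^ i * (s * J3Unique.val u d y)), hte]
    simp only [mul_assoc]
    rfl

theorem mulD_spec (C : Ctx u d s t) {z : Nf} (hz : z.OK) (m : ℕ) :
    (z.mulD m).OK ∧ (z.mulD m).val u d s t = z.val u d s t * d ^ m := by
  obtain ⟨b, x, i, y, τ⟩ := z
  obtain ⟨hx, hy, hb⟩ := hz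
  simp only at hx hy hb
  set m' := (if τ then 4 * m else m) % 15 with hm'
  have hte : (if τ then t else 1) * d ^ m = d ^ m' * if τ then t else 1 := by
    rw [hm', C.dpow_mod]
    cases τ
    · simp
    · simp only [if_true]
      calc t * d ^ m = t * d ^ m * (t * t) := by rw [C.t2, mul_one]
        _ = _ := by rw [← mul_assoc, C.t_dpow]
  cases b
  · refine ⟨⟨hx, hy, hb⟩, ?_⟩
    simp only [mulD, cond_false, val, Bool.false_eq_true, if_false, mul_one, ← hm']
    rw [C.dpow_mod, pow_add, mul_assoc (J3Unique.val u d x * d ^ i), hte]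
    group
  · refine ⟨⟨hx, sh_lt _ _, fun h => absurd h (by simp [mulD])⟩, ?_⟩
    simp only [mulD, cond_true, val, if_true, ← hm']
    rw [C.dpow_mod, pow_add, mul_assoc (J3Unique.val u d x * d ^ i * (s * J3Unique.val u d y)), hte]
    have h1 : d ^ (14 * m') = (d ^ m')⁻¹ := by rw [C.dinv, C.dpow_mod]
    have h2 : J3Unique.val u d y * d ^ m' = d ^ m' * J3Unique.val u d (sh y (14 * m' % 15)) := by
      have h := C.conj_val (14 * m' % 15) hy
      rw [← C.dinv] at h
      calc J3Unique.val u d y * d ^ m' = d ^ m' * ((d ^ m')⁻¹ * J3Unique.val u d y) * d ^ m' := by group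
        _ = _ := by rw [h]; group
    calc J3Unique.val u d x * (d ^ i * d ^ (14 * m')) * (s * J3Unique.val u d (sh y (14 * m' % 15))) * (if τ then t else 1)
        = J3Unique.val u d x * d ^ i * ((d ^ m')⁻¹ * s) * J3Unique.val u d (sh y (14 * m' % 15)) * (if τ then t else 1) := by
          rw [h1]; group
      _ = J3Unique.val u d x * d ^ i * s * (d ^ m' * J3Unique.val u d (sh y (14 * m' % 15))) * (if τ then t else 1) := by
          rw [← C.s_dpow]; group
      _ = _ := by rw [← h2]; group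

theorem mulS_spec (C : Ctx u d s t) {z : Nf} (hz : z.OK) :
    z.mulS.OK ∧ z.mulS.val u d s t = z.val u d s t * s := by
  obtain ⟨b, x, i, y, τ⟩ := z
  obtain ⟨hx, hy, hb⟩ := hz
  simp only at hx hy hb
  have hts : (if τ then t else 1) * s = s * if τ then t else 1 := by
    cases τ
    · simp
    · simpa using C.tst
  cases b
  · refine ⟨⟨hx, hy, by simp [mulS]⟩, ?_⟩
    simp only [mulS, cond_false, val, Bool.false_eq_true, if_false, if_true, mul_one, hb rfl, Ctx.val_zero]
    rw [mul_assoc (J3Unique.val u d x * d ^ i) (if τ then t else 1), hts]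
    group
  · by_cases h0 : y = 0
    · refine ⟨⟨by simpa [mulS, h0] using hx, by simp [mulS, h0], by simp [mulS, h0]⟩, ?_⟩
      simp only [mulS, cond_true, h0, if_true, val, Bool.false_eq_true, if_false, mul_one, Ctx.val_zero]
      rw [mul_assoc (J3Unique.val u d x * d ^ i * s), hts]
      rw [← mul_assoc, mul_assoc (J3Unique.val u d x * d ^ i), C.s2, mul_one]
    · refine ⟨⟨by simpa [mulS, h0] using xor_lt hx (pw_lt _), by simpa [mulS, h0] using pw_lt _, by simp [mulS, h0]⟩, ?_⟩
      simp only [mulS, cond_true, if_neg h0, val, if_true]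
      set j := 14 * lg y % 15 with hj
      rw [C.val_xor, C.val_pw, C.dpow_mod, pow_add, C.val_pw,
        mul_assoc (J3Unique.val u d x * d ^ i * (s * J3Unique.val u d y)), hts]
      rw [C.val_eq_e hy h0]
      calc J3Unique.val u d x * e u d (j + i) * (d ^ i * d ^ (13 * lg y % 15)) * (s * e u d j) * (if τ then t else 1)
          = J3Unique.val u d x * d ^ i * (e u d j * d ^ (13 * lg y % 15) * s * e u d j) * (if τ then t else 1) := by
            rw [← Ctx.conj_e]; group
        _ = _ := by rw [hj, ← C.s_e]; group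

theorem mulT_spec (C : Ctx u d s t) {z : Nf} (hz : z.OK) :
    z.mulT.OK ∧ z.mulT.val u d s t = z.val u d s t * t := by
  obtain ⟨b, x, i, y, τ⟩ := z
  refine ⟨hz, ?_⟩
  cases τ <;> simp [mulT, val, mul_assoc, C.t2]

theorem one_spec : (one).OK ∧ (one).val u d s t = (1 : G) := by
  refine ⟨⟨by decide, by decide, fun _ => rfl⟩, ?_⟩
  simp [one, val, Ctx.val_zero]

/-- The letters. -/
def letter (u d s t : G) : ℕ → G
  | 0 => u
  | 1 => e u d 11 * d ^ 6 * s * e u d 11
  | _ => t

theorem mulL_spec (C : Ctx u d s t) {z : Nf} (hz : z.OK) (l : ℕ) :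
    (z.mulL l).OK ∧ (z.mulL l).val u d s t = z.val u d s t * letter u d s t l := by
  match l with
  | 0 =>
    obtain ⟨h1, h2⟩ := mulE_spec C hz 0
    exact ⟨h1, by rw [show z.mulL 0 = z.mulE 0 from rfl, h2, Ctx.e_zero]; rfl⟩
  | 1 =>
    obtain ⟨h1, e1⟩ := mulE_spec C hz 11
    obtain ⟨h2, e2⟩ := mulD_spec C h1 6
    obtain ⟨h3, e3⟩ := mulS_spec C h2
    obtain ⟨h4, e4⟩ := mulE_spec C h3 11
    refine ⟨h4, ?_⟩
    rw [show z.mulL 1 = (((z.mulE 11).mulD 6).mulS).mulE 11 from rfl, e4, e3, e2, e1]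
    simp only [letter]
    group
  | l + 2 => exact mulT_spec C hz

theorem ofWord_spec (C : Ctx u d s t) : ∀ w : List ℕ,
    (ofWord w).OK ∧ (ofWord w).val u d s t = appProd (letter u d s t) w := by
  intro w
  induction w with
  | nil => exact ⟨(one_spec (u := u) (d := d) (s := s) (t := t)).1, one_spec.2⟩
  | cons l w ih =>
    obtain ⟨h1, h2⟩ := mulL_spec C ih.1 l
    exact ⟨h1, by rw [show ofWord (l :: w) = (ofWord w).mulL l from rfl, h2, ih.2]; rfl⟩

end Nf

end CfsgLib.Sporadic.J3Unique
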