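import Cfsg.Agent.Lib.Sporadic.J3Unique.Vee

/-!
# The involution `v` and the relations it satisfies in the normaliser of `E`
-/

set_option autoImplicit false
set_option maxRecDepth 100000
set_option linter.style.haveILetI false
set_option linter.unusedSectionVars false

namespace CfsgLib.Sporadic.J3Unique

open CfsgLib.SmallGroups.J3Order (Loc mul)
open CfsgLib.Sporadic.J3Linear
open CfsgLib.Sporadic.J3Linear.Data (cL fL e0)
open Subgroup

variable {G : Type*} [Group G] [Finite G] {t : G} {ρ : ℕ → G}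

/-- An elementary abelian subgroup of order sixteen is self-centralising. -/
theorem centralise_le (h : Loc t ρ) (hone : ∀ x y : G, orderOf x = 2 → orderOf y = 2 → IsConj x y)
    {E : Subgroup G} {u : G} (hE : Nat.card E = 16) (h2 : ∀ x ∈ E, x * x = 1) (hu : u ∈ E) (hu1 : u ≠ 1)
    {z : G} (hz : ∀ x ∈ E, z * x = x * z) : z ∈ E := by
  have huo : orderOf u = 2 := orderOf_eq_prime (by rw [pow_two, h2 u hu]) hu1
  obtain ⟨g, hg⟩ := isConj_iff.1 (hone u t huo h.ht)
  set E' := E.map (MulAut.conj g).toMonoidHom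
  have hE' : Nat.card E' = 16 := (Subgroup.card_map_of_injective (MulAut.conj g).injective).trans hE
  have h2' : ∀ x ∈ E', x * x = 1 := by
    rintro _ ⟨x, hx, rfl⟩
    rw [← map_mul, h2 x hx, map_one]
  obtain ⟨k, -, hk⟩ := conj_E0 h E' hE' h2' ⟨u, hu, hg⟩
  set z' := k⁻¹ * (g * z * g⁻¹) * k
  have hz' : ∀ x ∈ E₀ h, z' * x = x * z' := by
    intro x hx
    have hm : k * x * k⁻¹ ∈ E' := hk ▸ ⟨x, hx, rfl⟩
    obtain ⟨y, hy, e⟩ := hm
    have e' : g * y * g⁻¹ = k * x * k⁻¹ := e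
    have hx' : x = k⁻¹ * (g * y * g⁻¹) * k := by rw [e']; group
    calc z' * x = k⁻¹ * g * (z * y) * g⁻¹ * k := by simp only [z', hx']; group
      _ = k⁻¹ * g * (y * z) * g⁻¹ * k := by rw [hz y hy]
      _ = _ := by simp only [z', hx']; group
  obtain ⟨i, hi, hie⟩ := h.cover z' (hz' t (E0_facts h).2.2)
  have hs := e0_self
  simp only [List.all_eq_true, List.mem_range, Bool.or_eq_true, Bool.not_eq_true', List.all_eq_false,
    List.contains_iff_mem, beq_iff_eq] at hs
  have hmem : i ∈ e0 := by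
    refine (hs i hi).resolve_left ?_
    rintro ⟨x, hx, hne⟩
    exact hne ((eq_iff h hi (e0_lt hx) (e0_lt hx) hi).2 (by rw [hie]; exact hz' _ ⟨x, hx, rfl⟩))
  have hzE : g * z * g⁻¹ ∈ E' := by
    rw [← hk]
    exact ⟨z', ⟨i, hmem, hie⟩, by show k * z' * k⁻¹ = _; simp only [z']; group⟩
  obtain ⟨y, hy, e⟩ := hzE
  rwa [show z = y from (mul_left_cancel (mul_right_cancel (show g * y * g⁻¹ = g * z * g⁻¹ from e))).symm]

variable {E : Subgroup G} {c d s u : G}

/-- A basis of the field over the field with two elements. -/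
def basisComb (i : ℕ) : ℕ :=
  (if i.testBit 0 then pw 0 else 0) ^^^ (if i.testBit 1 then pw 5 else 0) ^^^
    (if i.testBit 2 then pw 1 else 0) ^^^ (if i.testBit 3 then pw 11 else 0)

theorem basis_cover : ∀ x < 16, ∃ i < 16, basisComb i = x := by decide +kernel

/-- An additive action is determined on a basis. -/
theorem conj_of_basis (C : Ctx u d s t) (w : G) (M : ℕ → ℕ)
    (hM : ∀ i < 16, M (basisComb i) = (if i.testBit 0 then M (pw 0) else 0) ^^^ (if i.testBit 1 then M (pw 5) else 0) ^^^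
      (if i.testBit 2 then M (pw 1) else 0) ^^^ (if i.testBit 3 then M (pw 11) else 0))
    (hb : ∀ k ∈ [0, 5, 1, 11], w * val u d (pw k) * w⁻¹ = val u d (M (pw k))) :
    ∀ x < 16, w * val u d x * w⁻¹ = val u d (M x) := by
  intro x hx
  obtain ⟨i, hi, rfl⟩ := basis_cover x hx
  have h4 : ∀ (b : Bool) (k : ℕ), k ∈ [0, 5, 1, 11] →
      w * val u d (if b then pw k else 0) * w⁻¹ = val u d (if b then M (pw k) else 0) := by
    intro b k hk
    cases b
    · simp [Ctx.val_zero]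
    · simpa using hb k hk
  rw [hM i hi, basisComb, C.val_xor, C.val_xor, C.val_xor, C.val_xor, C.val_xor, C.val_xor, ← h4 _ 0 (by simp),
    ← h4 _ 5 (by simp), ← h4 _ 1 (by simp), ← h4 _ 11 (by simp)]
  group

/-- What the involution `v` satisfies. -/
structure Vee (t c : G) (ρ : ℕ → G) (E : Subgroup G) (d s u v : G) : Prop where
  v2 : v * v = 1
  vt : v * t = t * v
  vc : v * c = c * v
  vu : v * u = u * v
  vD : v ∈ dGrp E c
  act : ∀ x < 16, v * val u d x * v⁻¹ = val u d (actV x)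
  sq : (v * (s * v * s)) * (v * (s * v * s)) = t
  five : ∀ ij ∈ CfsgLib.Sporadic.CosetCert.J3U.qPairs, ∀ q : ℕ → G,
    (∀ i, q i = (kStr.getD i []).foldl (fun z k => z * (match k with | 0 => u | 1 => c | 2 => s | _ => t)) 1 * v *
      (invStr (kStr.getD i [])).foldl (fun z k => z * (match k with | 0 => u | 1 => c | 2 => s | _ => t)) 1) →
    t * ((q ij.1 * q ij.2) * (q ij.1 * q ij.2)) = 1

set_option maxHeartbeats 2000000 in
/-- The involution `v`. -/
theorem exists_vee (h : Loc t ρ) (hone : ∀ x y : G, orderOf x = 2 → orderOf y = 2 → IsConj x y)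
    {f : G} (g : Gens t ρ E f s u) (N : Norm t (ρ 2) E d s u) : ∃ v : G, Vee t (ρ 2) ρ E d s u v := by
  classical
  haveI : Fact (Nat.Prime 2) := ⟨Nat.prime_two⟩
  have C := N.ctx
  have F := g.frame
  have htD := g.tD
  have hto : orderOf (⟨t, htD⟩ : ↥(dGrp E (ρ 2))) = 2 := by rw [Subgroup.orderOf_mk]; exact h.ht
  obtain ⟨V, hV⟩ := (IsPGroup.of_card (G := Subgroup.zpowers (⟨t, htD⟩ : ↥(dGrp E (ρ 2)))) (p := 2) (n := 1)
    (by rw [Nat.card_zpowers, hto, pow_one])).exists_le_sylow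
  have hV4 : Nat.card (V : Subgroup ↥(dGrp E (ρ 2))) = 2 ^ 2 := by
    rw [V.card_eq_multiplicity, F.cardD, Nat.factorization_def _ Nat.prime_two,
      show 180 = 2 ^ 2 * 45 from rfl, padicValNat.mul (by norm_num) (by norm_num), padicValNat.prime_pow,
      padicValNat.eq_zero_of_not_dvd (by norm_num)]
  haveI := IsPGroup.isMulCommutative_of_card_eq_prime_sq (p := 2) hV4
  obtain ⟨w, hw1, hwt⟩ : ∃ w : ↥(V : Subgroup ↥(dGrp E (ρ 2))), ((w : ↥(dGrp E (ρ 2))) : G) ≠ 1 ∧
      ((w : ↥(dGrp E (ρ 2))) : G) ≠ t := by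
    by_contra hne
    push Not at hne
    have : Nat.card ↥(V : Subgroup ↥(dGrp E (ρ 2))) ≤ Nat.card Bool := Nat.card_le_card_of_injective
      (fun v => decide (((v : ↥(dGrp E (ρ 2))) : G) = 1)) (fun a b hab => by
        simp only [decide_eq_decide] at hab
        apply Subtype.ext; apply Subtype.ext
        by_cases ha : ((a : ↥(dGrp E (ρ 2))) : G) = 1
        · rw [ha, hab.1 ha]
        · rw [hne a ha, hne b (fun e => ha (hab.2 e))])
    rw [hV4, Nat.card_eq_fintype_card, Fintype.card_bool] at this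
    norm_num at this
  set q : G := ((w : ↥(dGrp E (ρ 2))) : G)
  have hqD : q ∈ dGrp E (ρ 2) := (w : ↥(dGrp E (ρ 2))).2
  have hqt : q * t = t * q := congrArg (fun x : ↥(V : Subgroup ↥(dGrp E (ρ 2))) => ((x : ↥(dGrp E (ρ 2))) : G))
    (IsMulCommutative.is_comm.comm w ⟨⟨t, htD⟩, hV (Subgroup.mem_zpowers _)⟩)
  have hq4 : q ^ 4 = 1 := by
    have hd := orderOf_dvd_natCard w
    rw [hV4, ← Subgroup.orderOf_coe, ← Subgroup.orderOf_coe] at hd
    exact orderOf_dvd_iff_pow_eq_one.1 hd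
  obtain ⟨iq, hiq, hiqe⟩ := h.cover q hqt
  have hiqc : iq ∈ cL := (mem_cL h hiq).2 (by rw [hiqe]; exact mem_cent.1 hqD.2)
  obtain ⟨p, hp, hs, hu, hget, -, hfE, hf1, hfix⟩ := g.model
  have hspec := cand_spec
  simp only [List.all_eq_true, Bool.and_eq_true, Bool.or_eq_true, Bool.not_eq_true', beq_iff_eq,
    beq_eq_false_iff_ne, ne_eq, decide_eq_true_eq, List.contains_iff_mem, List.any_eq_false] at hspec
  obtain ⟨hA, hB⟩ := hspec p hp
  have hqcand : iq ∈ cand p := by
    rcases hA iq hiqc with (((e | e) | e) | e) | e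
    · exfalso
      refine e ?_
      have l := h.lt _ hiq _ hiq
      rw [mul_eq_one_iff h l l, h.mul _ hiq _ hiq, hiqe, ← hq4]
      simp [pow_succ, mul_assoc]
    · exfalso
      obtain ⟨x, hx, hxe⟩ := hfix (q * ρ (p.getD 0 0) * q⁻¹) ((Subgroup.mem_normalizer_iff.1 hqD.1 _).1 hfE)
        (fun e => hf1 (conj_eq_one_iff.1 e))
        (((show Commute q t from hqt).mul_left (show Commute (ρ (p.getD 0 0)) t from h.comm _ (hget 0))).mul_left
          (show Commute q t from hqt).inv_left).eq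
      have hxl : x < 1920 := by
        simp only [List.mem_cons, List.not_mem_nil, or_false] at hx
        rcases hx with rfl | rfl | rfl <;> exact hget _
      refine e x hx ((eq_iff h hiq (hget 0) hxl hiq).2 ?_)
      rw [hiqe, hxe]; group
    · exfalso; exact hw1 (by rw [← hiqe, e, h.one])
    · exfalso; exact hwt (by rw [← hiqe, e, h.centre])
    · exact e
  -- everything needed from the model, for both candidates
  have hfrom : ∀ i ∈ cand p, i < 1920 ∧ ρ i * ρ i = 1 ∧ ρ i * t = t * ρ i ∧ ρ i * ρ 2 = ρ 2 * ρ i ∧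
      ρ i * u = u * ρ i ∧ ρ i ≠ 1 ∧ ρ i ≠ t ∧
      (ρ i * (s * ρ i * s)) * (ρ i * (s * ρ i * s)) = t ∧
      (∀ ij ∈ CfsgLib.Sporadic.CosetCert.J3U.qPairs,
        ρ 960 * (ρ (mul (qIx p i ij.1) (qIx p i ij.2)) * ρ (mul (qIx p i ij.1) (qIx p i ij.2))) = 1) := by
    intro i hi
    obtain ⟨⟨⟨⟨⟨⟨⟨⟨hlt, hii⟩, hi0⟩, hi9⟩, hi2⟩, hiu⟩, -⟩, hsq⟩, hq⟩ := hB i hi
    have hgi : ∀ k, genIx p k < 1920 := fun k => by
      match k with
      | 0 => exact hget 4
      | 1 => show (2 : ℕ) < 1920; norm_num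
      | 2 => exact hget 3
      | k + 3 => show (960 : ℕ) < 1920; norm_num
    have hstr : ∀ (l : List ℕ) z, z < 1920 → l.foldl (fun z c => mul z (genIx p c)) z < 1920 := by
      intro l
      induction l with
      | nil => intro z hz; exact hz
      | cons k l ih => intro z hz; exact ih _ (h.lt _ hz _ (hgi k))
    have hql : ∀ j, qIx p i j < 1920 := fun j =>
      h.lt _ (h.lt _ (hstr _ 0 (by norm_num)) _ hlt) _ (hstr _ 0 (by norm_num))
    have hy := h.lt _ (h.lt _ (hget 3) _ hlt) _ (hget 3)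
    have hz := h.lt _ hlt _ hy
    refine ⟨hlt, (mul_eq_one_iff h hlt hlt).1 hii, h.comm _ hlt, (eq_iff h hlt (by norm_num) (by norm_num) hlt).1 hi2,
      ?_, fun e => hi0 ((eq_one_iff h hlt).1 e), fun e => hi9 ((eq_t_iff h hlt).1 e), ?_, fun ij hij => ?_⟩
    · rw [hu]; exact (eq_iff h hlt (hget 4) (hget 4) hlt).1 hiu
    · rw [hs, ← h.mul _ (hget 3) _ hlt, ← h.mul _ (h.lt _ (hget 3) _ hlt) _ (hget 3), ← h.mul _ hlt _ hy,
        ← h.mul _ hz _ hz, hsq, h.centre]
    · have hl := h.lt _ (hql ij.1) _ (hql ij.2)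
      rw [← h.mul _ hl _ hl, ← h.mul _ (by norm_num) _ (h.lt _ hl _ hl), hq ij hij, h.one]
  obtain ⟨i, hi, X, hX⟩ : ∃ i ∈ cand p, ρ i ∈ dGrp E (ρ 2) ∧ ρ i * e u d 1 * (ρ i)⁻¹ = e u d 8 := by
    obtain ⟨hlt, hii, hit, hic, hiu, hi1, hi9, -, -⟩ := hfrom iq hqcand
    set v := ρ iq
    have hvD : v ∈ dGrp E (ρ 2) := hiqe ▸ hqD
    have hvi : v⁻¹ = v := inv_eq_of_mul_eq_one_right hii
    obtain ⟨x, hx, hxe⟩ := N.cover (v * e u d 1 * v⁻¹)
      ((Subgroup.mem_normalizer_iff.1 hvD.1 _).1 (by rw [← C.val_pw]; exact N.mem _ (pw_lt _)))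
    -- the condition from `t`
    have h4 : v * e u d 4 * v⁻¹ = val u d (sq x) := by
      have e4 : t * e u d 1 * t⁻¹ = e u d 4 := by rw [inv_eq_of_mul_eq_one_right C.t2, C.t_e]
      calc v * e u d 4 * v⁻¹ = (v * t) * e u d 1 * (v * t)⁻¹ := by rw [← e4]; group
        _ = t * (v * e u d 1 * v⁻¹) * t⁻¹ := by rw [hit]; group
        _ = t * val u d x * t := by rw [hxe, inv_eq_of_mul_eq_one_right C.t2]
        _ = _ := C.t_val hx
    have h0 : v * val u d (pw 0) * v⁻¹ = val u d (pw 0) := by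
      rw [C.val_pw, Ctx.e_zero, hiu, mul_inv_cancel_right]
    have h1 : v * val u d (pw 1) * v⁻¹ = val u d x := by rw [C.val_pw, hxe]
    have hxs : 1 ^^^ x = sq x := by
      refine N.inj _ (xor_lt (by norm_num) hx) _ (sq_lt x) ?_
      rw [← h4, ← C.val_pw 4, show pw 4 = pw 0 ^^^ pw 1 by decide +kernel, C.val_xor, C.val_xor,
        show val u d 1 = val u d (pw 0) by rw [show pw 0 = 1 by decide +kernel]]
      calc val u d (pw 0) * val u d x = (v * val u d (pw 0) * v⁻¹) * (v * val u d (pw 1) * v⁻¹) := by rw [h0, h1]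
        _ = _ := by group
    have hk : ∀ x < 16, 1 ^^^ x = sq x → x = pw 1 ∨ x = pw 4 ∨ x = pw 2 ∨ x = pw 8 := by decide +kernel
    have hshift : ∀ y < 16, v * val u d y * v⁻¹ = val u d x → ∀ z < 16,
        sh x 10 = z → v * val u d (sh y 10) * v⁻¹ = val u d z := by
      intro y hy hyv z _ hz
      have hdv : v * d ^ 10 = d ^ 10 * v := by rw [N.dc]; exact hic
      have hcy : ∀ y < 16, val u d (sh y 10) = d ^ 10 * val u d y * (d ^ 10)⁻¹ := fun y hy => by
        rw [C.conj_val 10 hy, mul_inv_cancel_right]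
      rw [hcy y hy, ← hz, hcy x hx, ← hyv]
      calc v * (d ^ 10 * val u d y * (d ^ 10)⁻¹) * v⁻¹ = (v * d ^ 10) * val u d y * (v * d ^ 10)⁻¹ := by group
        _ = (d ^ 10 * v) * val u d y * (d ^ 10 * v)⁻¹ := by rw [hdv]
        _ = _ := by group
    have h5 : v * val u d (pw 5) * v⁻¹ = val u d (pw 5) := by
      have hdv : v * d ^ 10 = d ^ 10 * v := by rw [N.dc]; exact hic
      have e10 : ∀ w : G, v * w = w * v → v * (d ^ 10 * w * (d ^ 10)⁻¹) * v⁻¹ = d ^ 10 * w * (d ^ 10)⁻¹ := by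
        intro w hw
        calc v * (d ^ 10 * w * (d ^ 10)⁻¹) * v⁻¹ = (v * d ^ 10) * w * (v * d ^ 10)⁻¹ := by group
          _ = d ^ 10 * (v * w * v⁻¹) * (d ^ 10)⁻¹ := by rw [hdv]; group
          _ = _ := by rw [hw, mul_inv_cancel_right]
      have a := e10 u hiu
      have b : v * (d ^ 10 * (d ^ 10 * u * (d ^ 10)⁻¹) * (d ^ 10)⁻¹) * v⁻¹ =
          d ^ 10 * (d ^ 10 * u * (d ^ 10)⁻¹) * (d ^ 10)⁻¹ := e10 _ (mul_inv_eq_iff_eq_mul.1 a)
      rw [show d ^ 10 * (d ^ 10 * u * (d ^ 10)⁻¹) * (d ^ 10)⁻¹ = e u d 20 by simp only [e]; group] at b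
      rw [C.val_pw, ← C.e_mod 5]
      rwa [← C.e_mod 20] at b
    have hfull : ∀ (w : G) (M : ℕ → ℕ), (∀ i < 16, M (basisComb i) = (if i.testBit 0 then M (pw 0) else 0) ^^^
        (if i.testBit 1 then M (pw 5) else 0) ^^^ (if i.testBit 2 then M (pw 1) else 0) ^^^
        (if i.testBit 3 then M (pw 11) else 0)) → (∀ k ∈ [0, 5, 1, 11], w * val u d (pw k) * w⁻¹ = val u d (M (pw k))) →
        ∀ x < 16, w * val u d x * w⁻¹ = val u d (M x) := fun w M => conj_of_basis C w M
    have h11 := hshift (pw 1) (pw_lt _) h1 (sh x 10) (sh_lt _ _) rfl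
    rw [show sh (pw 1) 10 = pw 11 by decide +kernel] at h11
    have hin : ∀ z : G, (∀ x < 16, z * val u d x * z⁻¹ = val u d x) → z * ρ 2 = ρ 2 * z → z = 1 := by
      intro z hz hzc
      have hzE := centralise_le h hone F.card F.sq N.uE g.stein.u1 (z := z) fun y hy => by
        obtain ⟨x, hx, rfl⟩ := N.cover y hy
        exact mul_inv_eq_iff_eq_mul.1 (hz x hx)
      exact F.fpf z hzE hzc.symm
    rcases hk x hx hxs with rfl | rfl | rfl | rfl
    · exfalso
      refine hi1 (hin v ?_ hic)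
      refine fun y hy => hfull v id ?_ ?_ y hy
      · decide +kernel
      · intro k hk
        simp only [List.mem_cons, List.not_mem_nil, or_false] at hk
        rcases hk with rfl | rfl | rfl | rfl
        · exact h0
        · exact h5
        · exact h1
        · rw [h11, show sh (pw 1) 10 = pw 11 by decide +kernel]; rfl
    · exfalso
      have hvt : ∀ y < 16, (v * t) * val u d y * (v * t)⁻¹ = val u d y := by
        intro y hy
        have := hfull v sq (by decide +kernel) (by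
          intro k hk
          simp only [List.mem_cons, List.not_mem_nil, or_false] at hk
          rcases hk with rfl | rfl | rfl | rfl
          · rw [show sq (pw 0) = pw 0 by decide +kernel]; exact h0
          · rw [show sq (pw 5) = pw 5 by decide +kernel]; exact h5
          · rw [show sq (pw 1) = pw 4 by decide +kernel]; exact h1
          · rw [show sq (pw 11) = sh (pw 4) 10 by decide +kernel]; exact h11) (sq y) (sq_lt y)
        have hq2 : ∀ y < 16, sq (sq y) = y := by decide +kernel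
        rw [hq2 y hy, ← C.t_val hy] at this
        refine Eq.trans ?_ this
        nth_rewrite 4 [← inv_eq_of_mul_eq_one_right C.t2]
        group
      have := hin (v * t) hvt (by rw [mul_assoc, mem_cent.1 htD.2, ← mul_assoc, hic, mul_assoc])
      exact hi9 (by rw [← inv_eq_of_mul_eq_one_right C.t2]; exact eq_inv_of_mul_eq_one_left this)
    · -- multiply by `t`
      have hc' : mul iq 960 ∈ cand p := by
        obtain ⟨⟨⟨-, hcc⟩, -⟩, -⟩ := hB iq hqcand
        exact hcc
      refine ⟨mul iq 960, hc', ?_, ?_⟩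
      · rw [h.mul _ hlt _ (by norm_num), h.centre]; exact mul_mem hvD htD
      · rw [h.mul _ hlt _ (by norm_num), h.centre]
        calc v * t * e u d 1 * (v * t)⁻¹ = t * (v * e u d 1 * v⁻¹) * t⁻¹ := by rw [hit]; group
          _ = t * e u d 2 * t := by rw [hxe.symm, C.val_pw, inv_eq_of_mul_eq_one_right C.t2]
          _ = e u d 8 := C.t_e 2
    · exact ⟨iq, hqcand, hvD, by rw [← hxe, C.val_pw]⟩
  obtain ⟨hlt, hii, hit, hic, hiu, -, -, hsq, hq⟩ := hfrom i hi
  refine ⟨ρ i, ⟨hii, hit, hic, hiu, X, ?_, hsq, ?_⟩⟩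
  · have hdv : ρ i * d ^ 10 = d ^ 10 * ρ i := by rw [N.dc]; exact hic
    have e10 : ∀ a b : ℕ, ρ i * e u d a * (ρ i)⁻¹ = e u d b → ρ i * e u d (a + 10) * (ρ i)⁻¹ = e u d (b + 10) := by
      intro a b hab
      rw [← Ctx.conj_e, ← Ctx.conj_e, ← hab]
      calc ρ i * (d ^ 10 * e u d a * (d ^ 10)⁻¹) * (ρ i)⁻¹ = (ρ i * d ^ 10) * e u d a * (ρ i * d ^ 10)⁻¹ := by group
        _ = (d ^ 10 * ρ i) * e u d a * (d ^ 10 * ρ i)⁻¹ := by rw [hdv]
        _ = _ := by group
    refine conj_of_basis C _ actV (by decide +kernel) fun k hk => ?_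
    have a0 : ρ i * e u d 0 * (ρ i)⁻¹ = e u d 0 := by rw [Ctx.e_zero, hiu, mul_inv_cancel_right]
    have a20 := e10 10 10 (e10 0 0 a0)
    rw [← C.e_mod (10 + 10)] at a20
    have a11 := e10 1 8 hX
    rw [← C.e_mod (8 + 10)] at a11
    simp only [List.mem_cons, List.not_mem_nil, or_false] at hk
    rcases hk with rfl | rfl | rfl | rfl
    · rw [show actV (pw 0) = pw 0 by decide +kernel, C.val_pw]; exact a0
    · rw [show actV (pw 5) = pw 5 by decide +kernel, C.val_pw]; exact a20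
    · rw [show actV (pw 1) = pw 8 by decide +kernel, C.val_pw, C.val_pw]; exact hX
    · rw [show actV (pw 11) = pw 3 by decide +kernel, C.val_pw, C.val_pw]; exact a11
  · intro ij hij q hqdef
    have hgen : ∀ k, ρ (genIx p k) = (match k with | 0 => u | 1 => ρ 2 | 2 => s | _ => t) ∧ genIx p k < 1920 := by
      intro k
      match k with
      | 0 => exact ⟨hu.symm, hget 4⟩
      | 1 => exact ⟨rfl, by norm_num [genIx]⟩
      | 2 => exact ⟨hs.symm, hget 3⟩
      | k + 3 => exact ⟨h.centre, show (960 : ℕ) < 1920 by norm_num⟩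
    have hstr : ∀ (l : List ℕ) (z : ℕ), z < 1920 → l.foldl (fun z c => mul z (genIx p c)) z < 1920 ∧
        ρ (l.foldl (fun z c => mul z (genIx p c)) z) =
          l.foldl (fun z k => z * (match k with | 0 => u | 1 => ρ 2 | 2 => s | _ => t)) (ρ z) := by
      intro l
      induction l with
      | nil => intro z hz; exact ⟨hz, rfl⟩
      | cons k l ih =>
        intro z hz
        obtain ⟨h1, h2⟩ := ih _ (h.lt _ hz _ (hgen k).2)
        refine ⟨h1, ?_⟩
        rw [List.foldl_cons, h2, h.mul _ hz _ (hgen k).2, (hgen k).1, List.foldl_cons]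
    have hqe : ∀ j, ρ (qIx p i j) = q j ∧ qIx p i j < 1920 := by
      intro j
      obtain ⟨h1, h2⟩ := hstr (kStr.getD j []) 0 (by norm_num)
      obtain ⟨h3, h4⟩ := hstr (invStr (kStr.getD j [])) 0 (by norm_num)
      rw [h.one] at h2 h4
      refine ⟨?_, h.lt _ (h.lt _ h1 _ hlt) _ h3⟩
      rw [hqdef, qIx, strIx, strIx, h.mul _ (h.lt _ h1 _ hlt) _ h3, h.mul _ h1 _ hlt, h2, h4]
    have := hq ij hij
    rwa [h.centre, h.mul _ (hqe _).2 _ (hqe _).2, (hqe _).1, (hqe _).1] at this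

end CfsgLib.Sporadic.J3Unique
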