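import Cfsg.Agent.Lib.Sporadic.J3Linear.Main
import Mathlib

/-!
# The centraliser of the element of order three is `3 × A₆`: two relations

The image modulo `⟨c⟩` is the alternating group of degree six, where the relations are checked; the transfer to an
abelian Sylow subgroup of order twenty-seven separates the centre.
-/

set_option autoImplicit false
set_option maxRecDepth 100000
set_option linter.style.haveILetI false
set_option linter.unusedSectionVars false

namespace CfsgLib.Sporadic.J3Linear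

open CfsgLib.SmallGroups.J3Order (Loc mul)
open Data Subgroup

variable {G : Type*} [Group G] [Finite G] {t : G} {ρ : ℕ → G}

set_option maxHeartbeats 1000000 in
/-- Modulo `⟨c⟩` the centraliser is alternating of degree six. -/
theorem cent_quotient (h : Loc t ρ) {E : Subgroup G} (F : Frame E (ρ 2)) (ht : t ∈ dGrp E (ρ 2))
    (hcard : Nat.card ↥(Subgroup.centralizer ({ρ 2} : Set G)) = 1080) :
    ∃ π : ↥(Subgroup.centralizer ({ρ 2} : Set G)) →* Equiv.Perm (Fin 6),
      (∀ y, Equiv.Perm.sign (π y) = 1) ∧ ∀ y, π y = 1 → ∃ n : ℕ, (y : G) = ρ 2 ^ n := by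
  classical
  set c := ρ 2 with hcdef
  set Y := Subgroup.centralizer ({c} : Set G)
  have hoc := F.oc
  have hcY : c ∈ Y := mem_cent.2 rfl
  let Z : Subgroup ↥Y := Subgroup.zpowers (⟨c, hcY⟩ : ↥Y)
  have hZle : Z ≤ Subgroup.center ↥Y := Subgroup.zpowers_le.2 (Subgroup.mem_center_iff.2 fun g =>
    Subtype.ext (mem_cent.1 g.2))
  haveI : Z.Normal := ⟨fun z hz g => by rwa [(Subgroup.mem_center_iff.1 (hZle hz)) g, mul_inv_cancel_right]⟩
  have hZcard : Nat.card Z = 3 := by
    rw [Nat.card_zpowers, ← Subgroup.orderOf_coe]; exact hoc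
  have htY : t ∈ Y := ht.2
  have hZmem : ∀ y : ↥Y, y ∈ Z → (y : G) = 1 ∨ (y : G) = c ∨ (y : G) = c * c := by
    intro y hy
    rw [mem_zpowers_iff_mem_range_orderOf, ← Subgroup.orderOf_coe, Finset.mem_image] at hy
    obtain ⟨n, hn, rfl⟩ := hy
    simp only [Finset.mem_range] at hn
    change n < orderOf c at hn
    rw [hoc] at hn
    interval_cases n
    · left; simp
    · right; left; simp
    · right; right; simp [pow_two]
  have h2 : mul 2 2 < 1920 := h.lt _ (by norm_num) _ (by norm_num)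
  have hρ22 : ρ (mul 2 2) = c * c := h.mul _ (by norm_num) _ (by norm_num)
  let f : DihedralGroup 4 → ↥Y := fun a => ⟨ρ (dIdx a), mem_cent.2 ((mem_cL h (dIdx_mem a).2).1 (dIdx_mem a).1)⟩
  let fh : DihedralGroup 4 →* ↥Y := MonoidHom.mk' f fun a b => Subtype.ext (by
    show ρ (dIdx (a * b)) = ρ (dIdx a) * ρ (dIdx b)
    rw [← dIdx_mul, h.mul _ (dIdx_mem a).2 _ (dIdx_mem b).2])
  let π := QuotientGroup.mk' Z
  set z : ↥Y ⧸ Z := π ⟨t, htY⟩
  have htt : t * t = 1 := by
    have := pow_orderOf_eq_one t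
    rwa [h.ht, pow_two] at this
  have ht1 : t ≠ 1 := fun e => by simpa [e] using h.ht
  have htZ : (⟨t, htY⟩ : ↥Y) ∉ Z := fun hm => by
    have := Subgroup.orderOf_dvd_natCard Z hm
    rw [← Subgroup.orderOf_coe, hZcard] at this
    rw [show orderOf ((⟨t, htY⟩ : ↥Y) : G) = 2 from h.ht] at this
    norm_num at this
  have hz : orderOf z = 2 := by
    refine orderOf_eq_prime ?_ (fun e => htZ ((QuotientGroup.eq_one_iff _).1 e))
    rw [← map_pow, show (⟨t, htY⟩ : ↥Y) ^ 2 = 1 from Subtype.ext (by simp [pow_two, htt]), map_one]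
  have hmem : ∀ a, π (fh a) ∈ Subgroup.centralizer ({z} : Set (↥Y ⧸ Z)) := fun a => mem_cent.2 (by
    rw [← map_mul, ← map_mul]
    exact congrArg π (Subtype.ext (h.comm _ (dIdx_mem a).2)))
  let ψ : DihedralGroup 4 →* ↥(Subgroup.centralizer ({z} : Set (↥Y ⧸ Z))) := (π.comp fh).codRestrict _ hmem
  have hbij : Function.Bijective ψ := by
    constructor
    · refine (injective_iff_map_eq_one ψ).2 fun a ha => dIdx_one a ?_
      have : fh a ∈ Z := (QuotientGroup.eq_one_iff _).1 (congrArg Subtype.val ha)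
      rcases hZmem _ this with e | e | e
      · exact Or.inl ((eq_one_iff h (dIdx_mem a).2).1 e)
      · exact Or.inr (Or.inl (h.inj _ (dIdx_mem a).2 _ (by norm_num) e))
      · exact Or.inr (Or.inr (h.inj _ (dIdx_mem a).2 _ h2 (e.trans hρ22.symm)))
    · rintro ⟨q, hq⟩
      obtain ⟨y, rfl⟩ := QuotientGroup.mk'_surjective Z q
      have hq' := mem_cent.1 hq
      rw [← map_mul, ← map_mul] at hq'
      have hk : ((⟨t, htY⟩ : ↥Y) * y)⁻¹ * (y * ⟨t, htY⟩) ∈ Z := QuotientGroup.eq.1 hq'.symm
      have hyc : Commute (y : G) c := mem_cent.1 y.2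
      have hcomm : (y : G) * t = t * y := by
        set k := ((⟨t, htY⟩ : ↥Y) * y)⁻¹ * (y * ⟨t, htY⟩) with hkdef
        have hk0 : (k : G) = ((y : G)⁻¹ * t * y) * t := by
          rw [hkdef]
          simp only [Subgroup.coe_mul, InvMemClass.coe_inv, mul_inv_rev, inv_eq_of_mul_eq_one_right htt]
          group
        set i' := (y : G)⁻¹ * t * y
        have hi2 : i' * i' = 1 := by
          calc i' * i' = (y : G)⁻¹ * (t * t) * y := by simp only [i']; group
            _ = 1 := by rw [htt]; group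
        have htc : Commute t c := mem_cent.1 htY
        have hi'k : i' = (k : G) * t := by rw [hk0, mul_assoc, htt, mul_one]
        have hkt : Commute (k : G) t := by
          rcases hZmem k hk with e | e | e <;> rw [e]
          · exact Commute.one_left _
          · exact htc.symm
          · exact htc.symm.mul_left htc.symm
        have hk2 : (k : G) * k = 1 := by
          calc (k : G) * k = (k : G) * k * (t * t) := by rw [htt, mul_one]
            _ = (k : G) * (k * t) * t := by group
            _ = (k : G) * (t * k) * t := by rw [hkt.eq]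
            _ = ((k : G) * t) * ((k : G) * t) := by group
            _ = 1 := by rw [← hi'k, hi2]
        have hc3 : c ^ 3 = 1 := hoc ▸ pow_orderOf_eq_one c
        have hk3 : (k : G) ^ 3 = 1 := by
          rcases hZmem k hk with e | e | e <;> rw [e]
          · simp
          · exact hc3
          · rw [← pow_two, ← pow_mul, mul_comm 2 3, pow_mul, hc3, one_pow]
        have hk1 : (k : G) = 1 := by
          rw [pow_succ, pow_two, hk2, one_mul] at hk3
          exact hk3
        rw [hk1, one_mul] at hi'k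
        calc (y : G) * t = (y : G) * i' := by rw [hi'k]
          _ = t * y := by simp only [i']; group
      obtain ⟨i, hi, hy⟩ := h.cover (y : G) hcomm
      have hic : i ∈ cL := (mem_cL h hi).2 (by rw [hy]; exact hyc.eq)
      obtain ⟨a, ha⟩ := dIdx_cover i hic
      refine ⟨a, Subtype.ext ?_⟩
      show π (fh a) = π y
      refine QuotientGroup.eq.2 ?_
      have hc' : (⟨c, hcY⟩ : ↥Y) ∈ Z := Subgroup.mem_zpowers _
      rcases ha with e | e | e
      · rw [show fh a = y from Subtype.ext (by rw [← hy, e]; rfl), inv_mul_cancel]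
        exact one_mem _
      · rw [show (fh a)⁻¹ * y = ⟨c, hcY⟩ from Subtype.ext (by
          rw [Subgroup.coe_mul, InvMemClass.coe_inv, ← hy, e, h.mul _ (dIdx_mem a).2 _ (by norm_num)]
          exact inv_mul_cancel_left _ _)]
        exact hc'
      · rw [show (fh a)⁻¹ * y = ⟨c, hcY⟩ * ⟨c, hcY⟩ from Subtype.ext (by
          rw [Subgroup.coe_mul, InvMemClass.coe_inv, ← hy, e, h.mul _ (dIdx_mem a).2 _ h2, hρ22]
          exact inv_mul_cancel_left _ _)]
        exact mul_mem hc' hc'
  have hY : Nat.card ↥Y = 3 * Nat.card (↥Y ⧸ Z) := by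
    rw [← hZcard, ← Subgroup.index, Subgroup.card_mul_index]
  have hDY : dGrp E c ≤ Y := inf_le_right
  rcases Cfsg.Agent.S3035.result z hz ⟨(MulEquiv.ofBijective ψ hbij).symm⟩ with e | ⟨⟨e⟩⟩ | ⟨⟨e⟩⟩ | ⟨⟨e⟩⟩ | ⟨⟨e⟩⟩
  · exfalso
    set O := Cfsg.oddCore (↥Y ⧸ Z)
    haveI : O.Normal := CfsgLib.Involution.ZStar.oddCore_normal
    have hodd : Odd (Nat.card O) := CfsgLib.Involution.ZStar.odd_card_oddCore
    have hO8 : O.index ∣ 8 := by
      let χ := (QuotientGroup.mk' O).comp (Subgroup.centralizer ({z} : Set (↥Y ⧸ Z))).subtype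
      have hs : Function.Surjective χ := by
        intro q
        obtain ⟨x, rfl⟩ := QuotientGroup.mk'_surjective O q
        obtain ⟨a, ha, b, hb, rfl⟩ := Subgroup.mem_sup_of_normal_right.1 (e ▸ Subgroup.mem_top x)
        refine ⟨⟨a, ha⟩, ?_⟩
        show QuotientGroup.mk' O a = _
        rw [map_mul, show QuotientGroup.mk' O b = 1 from (QuotientGroup.eq_one_iff b).2 hb, mul_one]
      have := Subgroup.card_dvd_of_surjective χ hs
      rwa [← Nat.card_congr (MulEquiv.ofBijective ψ hbij).toEquiv, DihedralGroup.nat_card,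
        ← Subgroup.index] at this
    -- the preimage meets `D` in a normal subgroup of order `45`
    set D' := (dGrp E c).subgroupOf Y
    set O' := O.comap π
    haveI : O'.Normal := Subgroup.Normal.comap inferInstance _
    have hO'i : O'.index = O.index := Subgroup.index_comap_of_surjective _ (QuotientGroup.mk'_surjective Z)
    have hO'odd : Odd (Nat.card O') := by
      have h1 := O'.card_mul_index
      rw [hO'i, hY, ← O.card_mul_index, ← mul_assoc] at h1
      have h2 : Nat.card O' = 3 * Nat.card O :=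
        Nat.eq_of_mul_eq_mul_right (Nat.pos_of_ne_zero Subgroup.index_ne_zero_of_finite) h1
      rw [h2]
      exact Odd.mul ⟨1, rfl⟩ hodd
    set M := O' ⊓ D'
    have hD' : Nat.card D' = 180 := (Nat.card_congr (Subgroup.subgroupOfEquivOfLe hDY).toEquiv).trans F.cardD
    have hrel : O'.relIndex D' ∣ 8 := (Subgroup.relIndex_dvd_index_of_normal O' D').trans (hO'i ▸ hO8)
    have hM1 : Nat.card M * O'.relIndex D' = 180 := by
      rw [← hD', ← Subgroup.inf_relIndex_right, Subgroup.relIndex,
        ← Nat.card_congr (Subgroup.subgroupOfEquivOfLe (show M ≤ D' from inf_le_right)).toEquiv]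
      exact Subgroup.card_mul_index _
    have hModd : Odd (Nat.card M) := Odd.of_dvd_nat hO'odd (Subgroup.card_dvd_of_le inf_le_left)
    have hM45 : Nat.card M = 45 := by
      have h4 : O'.relIndex D' ≤ 8 := Nat.le_of_dvd (by norm_num) hrel
      obtain ⟨m, hm⟩ := hModd
      interval_cases hr : O'.relIndex D' <;> omega
    refine F.no45 (M.map Y.subtype) ?_ (by rw [Subgroup.card_map_of_injective Y.subtype_injective, hM45]) ?_
    · rintro _ ⟨x, hx, rfl⟩; exact hx.2
    · rintro d hd _ ⟨x, hx, rfl⟩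
      exact ⟨⟨d, hDY hd⟩ * x * ⟨d, hDY hd⟩⁻¹, ⟨Subgroup.Normal.conj_mem inferInstance _ hx.1 _,
        (mul_mem (mul_mem hd hx.2) (inv_mem hd) : d * (x : G) * d⁻¹ ∈ dGrp E c)⟩, rfl⟩
  · rw [hY, Nat.card_congr e.toEquiv, Nat.card_perm, Nat.card_fin] at hcard; norm_num [Nat.factorial] at hcard
  · rw [hY, Nat.card_congr e.toEquiv, Nat.card_perm, Nat.card_fin] at hcard; norm_num [Nat.factorial] at hcard
  · rw [hY, Nat.card_congr e.toEquiv, Cfsg.Agent.S3035.card_sl] at hcard; norm_num at hcard
  · refine ⟨(alternatingGroup (Fin 6)).subtype.comp (e.toMonoidHom.comp π), fun y => (e (π y)).2, fun y hy => ?_⟩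
    have h1 : π y = 1 := e.injective (Subtype.ext (hy.trans (by simp)))
    rcases hZmem y ((QuotientGroup.eq_one_iff y).1 h1) with e' | e' | e'
    · exact ⟨0, by rw [e', pow_zero]⟩
    · exact ⟨1, by rw [e', pow_one]⟩
    · exact ⟨2, by rw [e', pow_two]⟩

end CfsgLib.Sporadic.J3Linear

namespace CfsgLib.Sporadic.J3Unique

open CfsgLib.SmallGroups.J3Order (Loc)
open CfsgLib.Sporadic.J3Linear

/-- Composition of permutations given by lists of images. -/
def lcomp (a b : List ℕ) : List ℕ := b.map fun i => a.getD i 0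

/-- The list of images. -/
def lst (σ : Equiv.Perm (Fin 6)) : List ℕ := List.ofFn fun i => (σ i : ℕ)

theorem lst_mul (σ τ : Equiv.Perm (Fin 6)) : lst (σ * τ) = lcomp (lst σ) (lst τ) := by
  simp only [lst, lcomp, List.map_ofFn]
  congr 1
  funext i
  rw [Function.comp_apply, List.getD_eq_getElem (hn := by simp), List.getElem_ofFn, Equiv.Perm.mul_apply]

theorem lst_one : lst 1 = List.range 6 := by decide

theorem lst_inj {σ τ : Equiv.Perm (Fin 6)} (h : lst σ = lst τ) : σ = τ := by
  ext i
  exact congrFun (List.ofFn_inj.1 h) i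

theorem lst_mem (σ : Equiv.Perm (Fin 6)) : lst σ ∈ (List.range 6).permutations' := by
  rw [List.mem_permutations']
  show (List.ofFn (Fin.val ∘ ⇑σ)).Perm _
  rw [List.perm_ext_iff_of_nodup (List.nodup_ofFn.2 (Fin.val_injective.comp σ.injective))
    List.nodup_range]
  intro x
  rw [List.mem_ofFn, List.mem_range]
  constructor
  · rintro ⟨i, rfl⟩; exact (σ i).2
  · intro hx; exact ⟨σ.symm ⟨x, hx⟩, by simp⟩

/-- The double transposition. -/
def tPerm : Equiv.Perm (Fin 6) := Equiv.swap 0 1 * Equiv.swap 2 3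

/-- Powers of a list permutation. -/
def lpow (a : List ℕ) : ℕ → List ℕ
  | 0 => List.range 6
  | n + 1 => lcomp (lpow a n) a

theorem lst_pow (σ : Equiv.Perm (Fin 6)) : ∀ n, lst (σ ^ n) = lpow (lst σ) n
  | 0 => by rw [pow_zero, lst_one]; rfl
  | n + 1 => by rw [pow_succ, lst_mul, lst_pow σ n]; rfl

/-- The check in the symmetric group of degree six. -/
theorem six_check :
    let T := [1, 0, 3, 2, 4, 5]
    let P := (List.range 6).permutations'
    let I := P.filter fun x => lcomp x x == List.range 6 && lcomp x T == lcomp T x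
    let F5 := P.filter fun x => lpow x 5 == List.range 6 && lcomp (lcomp T x) (lcomp T x) == List.range 6
    (I.all fun V => I.all fun W => !(lpow (lcomp V W) 2 == T) || F5.all fun F =>
      !(lpow (lcomp V (lcomp F F)) 3 == List.range 6) || !(lpow (lcomp V F) 5 == List.range 6) ||
      !(lpow (lcomp W F) 5 == List.range 6) || !(lpow (lcomp W (lcomp F F)) 3 == List.range 6) ||
      (lpow (lcomp (lcomp V W) F) 5 == List.range 6 && lpow (lcomp (lcomp F T) W) 3 == List.range 6)) = true := by
  decide +kernel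

theorem sign_two {σ : Equiv.Perm (Fin 6)} (hs : Equiv.Perm.sign σ = 1) (h2 : σ * σ = 1) (h1 : σ ≠ 1) :
    IsConj σ tPerm := by
  rw [Equiv.Perm.isConj_iff_cycleType_eq]
  have ho : orderOf σ = 2 := orderOf_eq_prime (by rw [pow_two, h2]) h1
  haveI : Fact (Nat.Prime 2) := ⟨Nat.prime_two⟩
  obtain ⟨n, hn⟩ := Equiv.Perm.cycleType_prime_order (σ := σ) (by rw [ho]; exact Nat.prime_two)
  rw [ho] at hn
  have hsum := σ.sum_cycleType
  rw [hn, Multiset.sum_replicate] at hsum
  have hle : σ.support.card ≤ 6 := by simpa using Finset.card_le_univ σ.support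
  have hsg := Equiv.Perm.sign_of_cycleType σ
  rw [hn, hs, Multiset.sum_replicate, Multiset.card_replicate] at hsg
  simp only [smul_eq_mul] at hsum hsg
  have hn1 : n = 1 := by
    have hn2 : n ≤ 2 := by omega
    interval_cases n
    · norm_num [pow_succ] at hsg
    · rfl
    · norm_num [pow_succ] at hsg
  rw [hn, hn1]
  decide

variable {G : Type*} [Group G] [Finite G] {t : G} {ρ : ℕ → G}

set_option maxHeartbeats 1000000 in
/-- The two relations in the centraliser of `c`. -/
theorem six_relations (h : Loc t ρ) {E : Subgroup G} (Fr : Frame E (ρ 2)) (ht : t ∈ dGrp E (ρ 2))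
    (hG : Nat.card G = 50232960) (hcard : Nat.card ↥(Subgroup.centralizer ({ρ 2} : Set G)) = 1080)
    {V W F : G} (hVc : V * ρ 2 = ρ 2 * V) (hWc : W * ρ 2 = ρ 2 * W) (hFc : F * ρ 2 = ρ 2 * F)
    (hV : V * V = 1) (hW : W * W = 1) (hVt : V * t = t * V) (hWt : W * t = t * W)
    (hVW : (V * W) * (V * W) = t) (hF : F ^ 5 = 1) (hFt : (t * F) * (t * F) = 1)
    (h1 : (V * (F * F)) ^ 3 = 1) (h2 : (V * F) ^ 5 = 1) (h3 : (W * F) ^ 5 = 1) (h4 : (W * (F * F)) ^ 3 = 1) :
    (V * W * F) ^ 5 = 1 ∧ (F * t * W) ^ 3 = 1 := by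
  classical
  set c := ρ 2
  set Y := Subgroup.centralizer ({c} : Set G)
  obtain ⟨π0, hsign, hker⟩ := cent_quotient h Fr ht hcard
  have htt : t * t = 1 := by
    have := pow_orderOf_eq_one t
    rwa [h.ht, pow_two] at this
  have hc3 : c ^ 3 = 1 := Fr.oc ▸ pow_orderOf_eq_one c
  let T : ↥Y := ⟨t, ht.2⟩
  let v : ↥Y := ⟨V, mem_cent.2 hVc⟩
  let w : ↥Y := ⟨W, mem_cent.2 hWc⟩
  let f : ↥Y := ⟨F, mem_cent.2 hFc⟩
  have hT1 : π0 T ≠ 1 := by
    intro e
    obtain ⟨n, hn⟩ := hker T e
    have hn' : t ^ 3 = 1 := by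
      rw [show t = c ^ n from hn, ← pow_mul, mul_comm, pow_mul, hc3, one_pow]
    rw [pow_succ, pow_two, htt, one_mul] at hn'
    simpa [hn'] using h.ht
  obtain ⟨g, hg⟩ := isConj_iff.1 (sign_two (hsign T)
    (by rw [← map_mul, show T * T = 1 from Subtype.ext (by simpa [T] using htt), map_one]) hT1)
  let π : ↥Y →* Equiv.Perm (Fin 6) := (MulAut.conj g).toMonoidHom.comp π0
  have hπT : π T = tPerm := hg
  have hπk : ∀ y, π y = 1 → π0 y = 1 := fun y e => by
    have : g * π0 y * g⁻¹ = 1 := e
    exact conj_eq_one_iff.1 this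
  let L : ↥Y → List ℕ := fun y => lst (π y)
  have Lm : ∀ a b, lcomp (L a) (L b) = L (a * b) := fun a b => by simp only [L]; rw [map_mul, lst_mul]
  have L1 : ∀ a : ↥Y, (a : G) = 1 → L a = List.range 6 := fun a e => by
    simp only [L]; rw [show a = 1 from Subtype.ext e, map_one, lst_one]
  have Lp : ∀ a n, lpow (L a) n = L (a ^ n) := fun a n => by simp only [L]; rw [map_pow, lst_pow]
  have LT : ([1, 0, 3, 2, 4, 5] : List ℕ) = L T := by
    simp only [L, hπT]; decide
  have hs := six_check
  simp only [List.all_eq_true, List.mem_filter, Bool.and_eq_true, Bool.or_eq_true, Bool.not_eq_true',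
    beq_iff_eq, beq_eq_false_iff_ne, ne_eq] at hs
  rw [LT] at hs
  have hres := hs (L v) ⟨lst_mem _, by rw [Lm]; exact L1 _ hV, by rw [Lm, Lm]; congr 1; exact Subtype.ext hVt⟩
    (L w) ⟨lst_mem _, by rw [Lm]; exact L1 _ hW, by rw [Lm, Lm]; congr 1; exact Subtype.ext hWt⟩
  replace hres := hres.resolve_left (fun e => e (by
    rw [Lm, Lp]; congr 1; exact Subtype.ext (by simpa [pow_two, T, v, w] using hVW))) (L f)
    ⟨lst_mem _, by rw [Lp]; exact L1 _ (by simpa [f] using hF), by rw [Lm, Lm]; exact L1 _ hFt⟩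
  have hgoal : L ((v * w * f) ^ 5) = List.range 6 ∧ L ((f * T * w) ^ 3) = List.range 6 := by
    rcases hres with (((e | e) | e) | e) | e
    · exact absurd (by rw [Lm, Lm, Lp]; exact L1 _ (by simpa [v, f] using h1)) e
    · exact absurd (by rw [Lm, Lp]; exact L1 _ (by simpa [v, f] using h2)) e
    · exact absurd (by rw [Lm, Lp]; exact L1 _ (by simpa [w, f] using h3)) e
    · exact absurd (by rw [Lm, Lm, Lp]; exact L1 _ (by simpa [w, f] using h4)) e
    · simpa only [Lm, Lp] using e
  have hzero : ∀ a : ↥Y, L a = List.range 6 → ∃ n : ℕ, (a : G) = c ^ n := fun a e =>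
    hker a (hπk a (lst_inj (e.trans lst_one.symm)))
  -- the Sylow subgroup of order twenty-seven is abelian
  haveI : Fact (Nat.Prime 3) := ⟨Nat.prime_three⟩
  obtain ⟨P⟩ := (inferInstance : Nonempty (Sylow 3 ↥Y))
  have hP : Nat.card (P : Subgroup ↥Y) = 3 ^ 3 := by
    rw [P.card_eq_multiplicity, hcard, Nat.factorization_def _ Nat.prime_three,
      show 1080 = 3 ^ 3 * 40 from rfl, padicValNat.mul (by norm_num) (by norm_num), padicValNat.prime_pow,
      padicValNat.eq_zero_of_not_dvd (by norm_num)]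
  let cy : ↥Y := ⟨c, mem_cent.2 rfl⟩
  have hcen : cy ∈ Subgroup.center ↥Y := Subgroup.mem_center_iff.2 fun y => Subtype.ext (mem_cent.1 y.2)
  have hcP : cy ∈ (P : Subgroup ↥Y) := by
    haveI : (Subgroup.zpowers cy).Normal :=
      ⟨fun z hz y => by rwa [(Subgroup.mem_center_iff.1 ((Subgroup.zpowers_le.2 hcen) hz)) y, mul_inv_cancel_right]⟩
    have h3' : IsPGroup 3 (Subgroup.zpowers cy) := IsPGroup.of_card (n := 1) (by
      rw [Nat.card_zpowers, ← Subgroup.orderOf_coe, pow_one]; exact Fr.oc)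
    obtain ⟨Q, hQ⟩ := h3'.exists_le_sylow
    obtain ⟨y, rfl⟩ := MulAction.exists_smul_eq ↥Y Q P
    refine ⟨cy, hQ (Subgroup.mem_zpowers _), ?_⟩
    show y * cy * y⁻¹ = cy
    rw [(Subgroup.mem_center_iff.1 hcen) y, mul_inv_cancel_right]
  have hPc : ∀ a b : ↥(P : Subgroup ↥Y), a * b = b * a := by
    by_contra hne
    set P' := (P : Subgroup ↥Y).map Y.subtype
    have hP' : Nat.card P' = 3 ^ 3 := (Subgroup.card_map_of_injective Y.subtype_injective).trans hP
    set ι : ↥(P : Subgroup ↥Y) ≃* ↥P' := (P : Subgroup ↥Y).equivMapOfInjective _ Y.subtype_injective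
    set Z := Subgroup.center ↥(P : Subgroup ↥Y)
    haveI : Finite ↥(P : Subgroup ↥Y) := inferInstance
    have hZdvd : Nat.card Z ∣ 3 ^ 3 := by rw [← hP]; exact Z.card_subgroup_dvd_card
    obtain ⟨k, hk, hkc⟩ := (Nat.dvd_prime_pow Nat.prime_three).1 hZdvd
    let cp : ↥(P : Subgroup ↥Y) := ⟨cy, hcP⟩
    have hcpZ : cp ∈ Z := Subgroup.mem_center_iff.2 fun y =>
      Subtype.ext ((Subgroup.mem_center_iff.1 hcen) y)
    have hcpo : orderOf cp = 3 := by rw [← Subgroup.orderOf_coe, ← Subgroup.orderOf_coe]; exact Fr.oc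
    have h3Z : 3 ∣ Nat.card Z := (dvd_of_eq hcpo.symm).trans (Subgroup.orderOf_dvd_natCard Z hcpZ)
    have hk1 : k = 1 := by
      have hidx := Z.card_mul_index
      rw [hkc, hP] at hidx
      have hk0 : k ≠ 0 := by
        rintro rfl
        rw [hkc] at h3Z; norm_num at h3Z
      by_contra hk1
      have hcyc : IsCyclic (↥(P : Subgroup ↥Y) ⧸ Z) := by
        interval_cases k
        · exact absurd rfl hk0
        · exact absurd rfl hk1
        · exact isCyclic_of_prime_card (p := 3) (show Z.index = 3 by omega)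
        · haveI : Subsingleton (↥(P : Subgroup ↥Y) ⧸ Z) :=
            (Nat.card_eq_one_iff_unique.1 (show Z.index = 1 by omega)).1
          infer_instance
      exact hne (commutative_of_cyclic_center_quotient (QuotientGroup.mk' Z) (by rw [QuotientGroup.ker_mk']))
    rw [hk1, pow_one] at hkc
    have hZc : Z = Subgroup.zpowers cp :=
      (Subgroup.eq_of_le_of_card_ge (Subgroup.zpowers_le.2 hcpZ) (by rw [Nat.card_zpowers, hcpo, hkc])).symm
    obtain ⟨K, hK81, hKN⟩ : ∃ K : Subgroup G, Nat.card K = 3 ^ 4 ∧ K ≤ Subgroup.normalizer ((P' : Subgroup G) : Set G) := by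
      have hdv := Sylow.prime_pow_dvd_card_normalizer (p := 3) (n := 3) (by rw [hG]; norm_num) hP'
      obtain ⟨K, hK⟩ := Sylow.exists_subgroup_card_pow_prime 3 hdv
      exact ⟨K.map (Subgroup.subtype _), (Subgroup.card_map_of_injective (Subgroup.subtype_injective _)).trans hK,
        Subgroup.map_subtype_le K⟩
    have hKY : K ≤ Y := by
      intro x hx
      -- conjugation fixes the centre of `P'`
      have hxc : x * c * x⁻¹ = c ∨ x * c * x⁻¹ = c * c := by
        have hm : x * c * x⁻¹ ∈ P' := (Subgroup.mem_normalizer_iff.1 (hKN hx) c).1 ⟨cy, hcP, rfl⟩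
        obtain ⟨y, hy, hye⟩ := hm
        have hyZ : (⟨y, hy⟩ : ↥(P : Subgroup ↥Y)) ∈ Z := by
          refine Subgroup.mem_center_iff.2 fun z => Subtype.ext (Subtype.ext ?_)
          show ((z : ↥Y) : G) * (y : G) = (y : G) * ((z : ↥Y) : G)
          rw [show (y : G) = x * c * x⁻¹ from hye]
          have hz' : x⁻¹ * ((z : ↥Y) : G) * x ∈ P' := by
            have := (Subgroup.mem_normalizer_iff.1 (inv_mem (hKN hx)) ((z : ↥Y) : G)).1 ⟨z, z.2, rfl⟩
            rwa [inv_inv] at this
          obtain ⟨z', -, hz'e⟩ := hz'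
          have hcz : (z' : G) * c = c * z' := mem_cent.1 z'.2
          rw [show (z' : G) = x⁻¹ * ((z : ↥Y) : G) * x from hz'e] at hcz
          calc ((z : ↥Y) : G) * (x * c * x⁻¹) = x * (x⁻¹ * ((z : ↥Y) : G) * x * c) * x⁻¹ := by group
            _ = x * (c * (x⁻¹ * ((z : ↥Y) : G) * x)) * x⁻¹ := by rw [hcz]
            _ = _ := by group
        rw [hZc, mem_zpowers_iff_mem_range_orderOf, hcpo, Finset.mem_image] at hyZ
        obtain ⟨n, hn, hne'⟩ := hyZ
        have hcn : x * c * x⁻¹ = c ^ n := by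
          rw [show x * c * x⁻¹ = (y : G) from hye.symm,
            ← congrArg (fun z : ↥(P : Subgroup ↥Y) => ((z : ↥Y) : G)) hne']
          simp [cp, cy]
        simp only [Finset.mem_range] at hn
        interval_cases n
        · exfalso
          rw [pow_zero, conj_eq_one_iff] at hcn
          simpa [hcn] using Fr.oc
        · exact Or.inl (by rw [hcn, pow_one])
        · exact Or.inr (by rw [hcn, pow_two])
      rcases hxc with e | e
      · exact mem_cent.2 (mul_inv_eq_iff_eq_mul.1 e)
      · have hx81 : x ^ 81 = 1 := by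
          have := orderOf_dvd_natCard (⟨x, hx⟩ : ↥K)
          rw [hK81, Subgroup.orderOf_mk] at this
          exact orderOf_dvd_iff_pow_eq_one.1 this
        have h2' : Commute (x * x) c := by
          show x * x * c = c * (x * x)
          have e' : x * c = c * c * x := mul_inv_eq_iff_eq_mul.1 e
          calc x * x * c = x * (x * c) := by group
            _ = x * (c * c * x) := by rw [e']
            _ = (x * c) * (c * x) := by group
            _ = (c * c * x) * (c * x) := by rw [e']
            _ = c * c * (x * c) * x := by group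
            _ = c * c * (c * c * x) * x := by rw [e']
            _ = c * (c * c * c) * (x * x) := by group
            _ = _ := by rw [show c * c * c = 1 by rw [← hc3, pow_succ, pow_two], mul_one]
        refine mem_cent.2 ?_
        have : x = (x * x) ^ 41 := by
          rw [← pow_two, ← pow_mul, show 2 * 41 = 81 + 1 from rfl, pow_succ, hx81, one_mul]
        rw [this]
        exact (h2'.pow_left 41).eq
    have := Subgroup.card_dvd_of_le hKY
    rw [hK81, hcard] at this
    norm_num at this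
  -- transfer
  letI : CommGroup ↥(P : Subgroup ↥Y) := { mul_comm := hPc }
  let χ : ↥Y →* ↥(P : Subgroup ↥Y) := MonoidHom.transfer (MonoidHom.id _)
  have hidx : (P : Subgroup ↥Y).index = 40 := by
    have := (P : Subgroup ↥Y).card_mul_index
    rw [hP, hcard] at this
    omega
  have hχc : χ cy = ⟨cy, hcP⟩ := by
    have key : ∀ (k : ℕ) (g₀ : ↥Y), g₀⁻¹ * cy ^ k * g₀ ∈ (P : Subgroup ↥Y) → g₀⁻¹ * cy ^ k * g₀ = cy ^ k := by
      intro k g₀ _
      rw [mul_assoc, ← (Subgroup.mem_center_iff.1 (pow_mem hcen k)) g₀, inv_mul_cancel_left]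
    rw [show χ cy = MonoidHom.transfer (MonoidHom.id _) cy from rfl, MonoidHom.transfer_eq_pow _ _ key]
    apply Subtype.ext
    apply Subtype.ext
    show (((cy ^ (P : Subgroup ↥Y).index : ↥Y)) : G) = c
    rw [SubmonoidClass.coe_pow, hidx, show (40 : ℕ) = 3 * 13 + 1 from rfl, pow_succ, pow_mul]
    show (c ^ 3) ^ 13 * c = c
    rw [hc3, one_pow, one_mul]
  have hkill : ∀ a : ↥Y, χ a = 1 → (∃ n : ℕ, (a : G) = c ^ n) → (a : G) = 1 := by
    rintro a ha ⟨n, hn⟩
    have : a = cy ^ n := Subtype.ext (by rw [hn, SubmonoidClass.coe_pow])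
    rw [this, map_pow, hχc] at ha
    have := congrArg (fun z : ↥(P : Subgroup ↥Y) => ((z : ↥Y) : G)) ha
    rw [hn]
    simpa [cy] using this
  have hodd : ∀ a : ↥Y, a * a = 1 → χ a = 1 := by
    intro a ha
    have h2 : χ a * χ a = 1 := by rw [← map_mul, ha, map_one]
    have h27 : χ a ^ (3 ^ 3) = 1 := hP ▸ pow_card_eq_one'
    rw [show (3 : ℕ) ^ 3 = 2 * 13 + 1 from rfl, pow_succ, pow_mul, pow_two, h2, one_pow, one_mul] at h27
    exact h27
  have hf : χ f = 1 := by
    have h5 : χ f ^ 5 = 1 := by rw [← map_pow, show f ^ 5 = 1 from Subtype.ext (by simpa [f] using hF), map_one]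
    have h27 : χ f ^ (3 ^ 3) = 1 := hP ▸ pow_card_eq_one'
    have : χ f ^ (Nat.gcd (3 ^ 3) 5) = 1 := pow_gcd_eq_one.2 ⟨h27, h5⟩
    simpa using this
  constructor
  · have := hkill ((v * w * f) ^ 5) (by
      rw [map_pow, map_mul, map_mul, hodd v (Subtype.ext hV), hodd w (Subtype.ext hW), hf, one_mul, one_mul, one_pow])
      (hzero _ hgoal.1)
    simpa [v, w, f] using this
  · have := hkill ((f * T * w) ^ 3) (by
      rw [map_pow, map_mul, map_mul, hodd T (Subtype.ext htt), hodd w (Subtype.ext hW), hf, one_mul, one_mul, one_pow])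
      (hzero _ hgoal.2)
    simpa [T, w, f] using this

end CfsgLib.Sporadic.J3Unique
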