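import Cfsg.Agent.Lib.Sporadic.J3Unique.Bound
import Cfsg.Agent.Lib.Sporadic.J3Unique.Inv
import Cfsg.Agent.Lib.Sporadic.J3Unique.Six
import Cfsg.Agent.Lib.Sporadic.J3Group

/-!
# Uniqueness of the third Janko group
-/

set_option autoImplicit false
set_option maxRecDepth 100000
set_option linter.style.haveILetI false
set_option linter.unusedSectionVars false

namespace CfsgLib.Sporadic.J3Unique

open CfsgLib.SmallGroups.J3Order (Loc)
open CfsgLib.Sporadic.J3Linear
open CfsgLib.Sporadic.CosetCert (appProd appProd_append appProd_replicate)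
open CfsgLib.Sporadic.CosetCert.J3U

section Words

variable {G : Type*} [Group G]

theorem appProd_rev (g : ℕ → G) (hg : ∀ x, g x * g x = 1) : ∀ w, appProd g w.reverse = (appProd g w)⁻¹ := by
  intro w
  induction w with
  | nil => simp [appProd]
  | cons x t ih =>
    rw [List.reverse_cons, appProd_append, ih, appProd, appProd, appProd, one_mul, mul_inv_rev,
      inv_eq_of_mul_eq_one_right (hg x)]

theorem appProd_red (g : ℕ → G) (hg : ∀ x, g x * g x = 1) (w : List ℕ) : appProd g (red w) = appProd g w := by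
  have key : ∀ (w o : List ℕ), appProd g ((w.foldl (fun o k => match o with
      | [] => [k]
      | h :: r => if h = k then r else k :: o) o).reverse) = appProd g w * appProd g o.reverse := by
    intro w
    induction w with
    | nil => intro o; simp [appProd]
    | cons k w ih =>
      intro o
      rw [List.foldl_cons, ih]
      cases o with
      | nil => simp [appProd]
      | cons h r =>
        by_cases hk : h = k
        · simp only [hk, if_true, List.reverse_cons, appProd_append, appProd, one_mul]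
          rw [mul_assoc (appProd g w) (g k), ← mul_assoc (g k) (g k), hg k, one_mul]
        · simp only [hk, if_false, List.reverse_cons, appProd_append, appProd, one_mul, mul_assoc]
  exact (key w []).trans (by simp [appProd])

theorem appProd_rep (g : ℕ → G) (n : ℕ) (w : List ℕ) : appProd g (rep n w) = appProd g w ^ n :=
  appProd_replicate g w n

theorem appProd_congr (g g' : ℕ → G) : ∀ w : List ℕ, (∀ x ∈ w, g x = g' x) → appProd g w = appProd g' w := by
  intro w
  induction w with
  | nil => intro _; rfl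
  | cons x t ih =>
    intro h
    rw [appProd, appProd, h x List.mem_cons_self, ih fun y hy => h y (List.mem_cons_of_mem _ hy)]

/-- A string over `u, d¹⁰, s, t` as a code. -/
def strNf (l : List ℕ) : Nf :=
  l.foldl (fun z k => match k with | 0 => z.mulE 0 | 1 => z.mulD 10 | 2 => z.mulS | _ => z.mulT) Nf.one

theorem strNf_spec {u d s t c : G} (C : Ctx u d s t) (hc : d ^ 10 = c) (l : List ℕ) :
    (strNf l).val u d s t = l.foldl (fun z k => z * (match k with | 0 => u | 1 => c | 2 => s | _ => t)) 1 := by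
  have key : ∀ (l : List ℕ) (z : Nf), z.OK →
      (l.foldl (fun z k => match k with | 0 => z.mulE 0 | 1 => z.mulD 10 | 2 => z.mulS | _ => z.mulT) z).val u d s t =
        l.foldl (fun z k => z * (match k with | 0 => u | 1 => c | 2 => s | _ => t)) (z.val u d s t) := by
    intro l
    induction l with
    | nil => intros; rfl
    | cons k l ih =>
      intro z hz
      rw [List.foldl_cons, List.foldl_cons]
      match k with
      | 0 =>
        obtain ⟨h1, h2⟩ := Nf.mulE_spec C hz 0
        refine (ih _ h1).trans ?_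
        rw [h2, Ctx.e_zero]
        rfl
      | 1 =>
        obtain ⟨h1, h2⟩ := Nf.mulD_spec C hz 10
        refine (ih _ h1).trans ?_
        rw [h2, hc]
        rfl
      | 2 =>
        obtain ⟨h1, h2⟩ := Nf.mulS_spec C hz
        refine (ih _ h1).trans ?_
        rw [h2]
        rfl
      | k + 3 =>
        obtain ⟨h1, h2⟩ := Nf.mulT_spec C hz
        refine (ih _ h1).trans ?_
        rw [h2]
        rfl
  refine (key l _ (Nf.one_spec (u := u) (d := d) (s := s) (t := t)).1).trans ?_
  rw [Nf.one_spec.2]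

theorem words_small : ∀ w ∈ allWords, (∀ x ∈ w, x < 3) ∧ Nf.ofWord w = Nf.one ∨
    w ∈ [[], [3, 0, 3, 0], [3, 2, 3, 2], [3, 3]] ++ semWords.map red := by
  decide +kernel

theorem word_codes : Nf.ofWord cW = ⟨false, 0, 10, 0, false⟩ ∧ Nf.ofWord fW = ⟨false, 0, 6, 0, false⟩ ∧
    Nf.ofWord f2W = ⟨false, 0, 12, 0, false⟩ ∧ Nf.ofWord ftW = ⟨false, 0, 6, 0, true⟩ ∧
    (∀ k < 15, Nf.ofWord (eW.getD k []) = ⟨false, pw k, 0, 0, false⟩ ∧ (∀ x ∈ eW.getD k [], x < 3)) ∧
    (∀ k < 14, vAct.getD (k + 1) 0 < 15 ∧ actV (pw (k + 1)) = pw (vAct.getD (k + 1) 0)) ∧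
    (∀ i < 5, Nf.ofWord (kW.getD i []) = strNf (kStr.getD i []) ∧
      Nf.ofWord (kW.getD i []).reverse = strNf (invStr (kStr.getD i [])) ∧ (∀ x ∈ kW.getD i [], x < 3)) ∧
    Nf.ofWord ksW = strNf [1, 2, 3] ∧ (∀ w ∈ [cW, fW, f2W, ftW, ksW], ∀ x ∈ w, x < 3) ∧
    (∀ ij ∈ qPairs, ij.1 < 5 ∧ ij.2 < 5) := by
  decide +kernel

/-- The actions composing to the identity. -/
theorem act_checks :
    (∀ x < 16, actV (sh (actV (sh (actV (sh x 12)) 12)) 12) = x) ∧
    (∀ x < 16, actV (sh (actV (sh (actV (sh x 3)) 3)) 3) = x) ∧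
    (∀ x < 16, actV (sh (actV (sh (actV (sh (actV (sh (actV (sh x 6)) 6)) 6)) 6)) 6) = x) ∧
    (∀ x < 16, actV (sh (actV (sh (actV (sh (actV (sh (actV (sh x 9)) 9)) 9)) 9)) 9) = x) := by
  decide +kernel

theorem actV_lt (x : ℕ) : actV x < 16 := by
  simp only [actV]
  refine xor_lt (xor_lt (xor_lt ?_ ?_) ?_) ?_ <;> split_ifs <;> norm_num

end Words

variable {G : Type*} [Group G] [Finite G] {t : G} {ρ : ℕ → G}

set_option maxHeartbeats 1000000 in
/-- A group of order `50232960` of the given local structure is the third Janko group. -/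
theorem iso_PG (h : Loc t ρ) (hone : ∀ x y : G, orderOf x = 2 → orderOf y = 2 → IsConj x y)
    (hG : Nat.card G = 50232960) : Nonempty (G ≃* CfsgLib.Sporadic.CosetCert.J3P.PG) := by
  obtain ⟨t, ρ, E, f, s, u, h, g⟩ := exists_model_gens h hone
  obtain ⟨d, N⟩ := exists_norm h g
  obtain ⟨v, V⟩ := exists_vee h hone g N
  have C := N.ctx
  set c := ρ 2
  set L : ℕ → G := fun x => if x = 3 then u * v else Nf.letter u d s t x with hL
  have hvi : v⁻¹ = v := inv_eq_of_mul_eq_one_right V.v2
  have hb2 : Nf.letter u d s t 1 * Nf.letter u d s t 1 = 1 := by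
    have e : Nf.ofWord [1, 1] = Nf.one := by decide +kernel
    have := (Nf.ofWord_spec C [1, 1]).2
    rw [e, (Nf.one_spec (u := u) (d := d) (s := s) (t := t)).2] at this
    simpa [appProd] using this.symm
  have huv : (u * v) * (u * v) = 1 := by
    calc (u * v) * (u * v) = u * (v * u) * v := by group
      _ = (u * u) * (v * v) := by rw [V.vu]; group
      _ = 1 := by rw [C.u2, V.v2, one_mul]
  have hLi : ∀ x, L x * L x = 1 := by
    intro x
    match x with
    | 0 => simpa [hL, Nf.letter] using C.u2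
    | 1 => simpa [hL] using hb2
    | 2 => simpa [hL, Nf.letter] using C.t2
    | 3 => simpa [hL] using huv
    | k + 4 => simpa [hL, Nf.letter] using C.t2
  have hsmall : ∀ w : List ℕ, (∀ x ∈ w, x < 3) → appProd L w = (Nf.ofWord w).val u d s t := fun w hw => by
    rw [(Nf.ofWord_spec C w).2]
    exact appProd_congr _ _ w fun x hx => by simp [hL, (hw x hx).ne]
  obtain ⟨hcW, hfW, hf2, hft, heW, hvA, hkW, hks, hlt, hqp⟩ := word_codes
  have hD : ∀ i : ℕ, d ^ i * c = c * d ^ i := fun i => by
    rw [← N.dc, ← pow_add, ← pow_add, add_comm]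
  have hvW : appProd L vW = v := by
    show appProd L [0, 3] = v
    simp only [appProd, one_mul, hL, if_true, show ¬ (0 : ℕ) = 3 by norm_num, if_false, Nf.letter]
    rw [mul_assoc, V.vu, ← mul_assoc, C.u2, one_mul]
  have hdv : ∀ w : List ℕ, ∀ i, (∀ x ∈ w, x < 3) → Nf.ofWord w = ⟨false, 0, i, 0, false⟩ → appProd L w = d ^ i :=
    fun w i hw e => by rw [hsmall w hw, e]; simp [Nf.val, Ctx.val_zero]
  have ec : appProd L cW = c := by rw [hdv cW 10 (hlt _ (by simp)) hcW, N.dc]
  have ef : appProd L fW = d ^ 6 := hdv fW 6 (hlt _ (by simp)) hfW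
  have ef2 : appProd L f2W = d ^ 12 := hdv f2W 12 (hlt _ (by simp)) hf2
  have eft : appProd L ftW = d ^ 6 * t := by
    rw [hsmall ftW (hlt _ (by simp)), hft]; simp [Nf.val, Ctx.val_zero]
  -- elements of the normaliser acting trivially
  have hin : ∀ z : G, (∀ x < 16, z * val u d x * z⁻¹ = val u d x) → z * c = c * z → z = 1 := by
    intro z hz hzc
    have hzE := centralise_le h hone g.frame.card g.frame.sq N.uE g.stein.u1 (z := z) fun y hy => by
      obtain ⟨x, hx, rfl⟩ := N.cover y hy
      exact mul_inv_eq_iff_eq_mul.1 (hz x hx)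
    exact g.frame.fpf z hzE hzc.symm
  have hstep : ∀ i x, x < 16 → (v * d ^ i) * val u d x * (v * d ^ i)⁻¹ = val u d (actV (sh x i)) := by
    intro i x hx
    rw [← V.act _ (sh_lt x i)]
    have : d ^ i * val u d x * (d ^ i)⁻¹ = val u d (sh x i) := by rw [C.conj_val i hx, mul_inv_cancel_right]
    rw [← this]
    group
  have hcomm : ∀ i, (v * d ^ i) * c = c * (v * d ^ i) := fun i => by
    rw [mul_assoc, hD, ← mul_assoc, V.vc, mul_assoc]
  have hiter : ∀ i n x, x < 16 →
      (v * d ^ i) ^ n * val u d x * ((v * d ^ i) ^ n)⁻¹ = val u d ((fun y => actV (sh y i))^[n] x) := by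
    intro i n
    induction n with
    | zero => intro x _; simp
    | succ n ih =>
      intro x hx
      rw [Function.iterate_succ_apply, ← ih _ (actV_lt _), ← hstep i x hx, pow_succ]
      group
  have htriv : ∀ i n, (∀ x < 16, (fun y => actV (sh y i))^[n] x = x) → (v * d ^ i) ^ n = 1 := fun i n hh =>
    hin _ (fun x hx => by rw [hiter i n x hx, hh x hx]) ((show Commute (v * d ^ i) c from hcomm i).pow_left n).eq
  obtain ⟨k1, k2, k3, k4⟩ := act_checks
  have hA12 : (v * d ^ 12) ^ 3 = 1 := htriv 12 3 (fun x hx => k1 x hx)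
  have hA3 : (v * d ^ 3) ^ 3 = 1 := htriv 3 3 (fun x hx => k2 x hx)
  have hA6 : (v * d ^ 6) ^ 5 = 1 := htriv 6 5 (fun x hx => k3 x hx)
  have hA9 : (v * d ^ 9) ^ 5 = 1 := htriv 9 5 (fun x hx => k4 x hx)
  -- the conjugates
  have eK : ∀ i < 5, appProd L (qW i) = (kStr.getD i []).foldl
      (fun z k => z * (match k with | 0 => u | 1 => c | 2 => s | _ => t)) 1 * v *
      (invStr (kStr.getD i [])).foldl (fun z k => z * (match k with | 0 => u | 1 => c | 2 => s | _ => t)) 1 := by
    intro i hi
    obtain ⟨h1, h2, h3⟩ := hkW i hi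
    rw [qW, appProd_append, appProd_append, hvW, hsmall _ h3, h1, strNf_spec C N.dc,
      hsmall _ (fun x hx => h3 x (List.mem_reverse.1 hx)), h2, strNf_spec C N.dc, ← mul_assoc]
  -- the second conjugate
  set W := s * v * s with hWdef
  have hsi : s⁻¹ = s := inv_eq_of_mul_eq_one_right C.s2
  have esW : appProd L sW = W := by
    rw [sW, appProd_append, appProd_append, appProd_rev L hLi, hvW, hsmall _ (hlt _ (by simp)), hks,
      strNf_spec C N.dc]
    simp only [List.foldl_cons, List.foldl_nil, one_mul]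
    have e1 : t * v * t⁻¹ = v := by rw [← V.vt]; group
    have e2 : c * W * c⁻¹ = W := by
      have hcs : c * s = s * c⁻¹ := by
        calc c * s = (s * s) * c * s := by rw [C.s2, one_mul]
          _ = s * (s * c * s) := by group
          _ = _ := by rw [g.scs]
      calc c * W * c⁻¹ = (c * s) * v * (c * s)⁻¹ := by simp only [W]; rw [mul_inv_rev, hsi]; group
        _ = s * (c⁻¹ * v * c) * s⁻¹ := by rw [hcs, mul_inv_rev, inv_inv]; group
        _ = s * (c⁻¹ * (v * c)) * s := by rw [hsi]; group
        _ = W := by rw [V.vc, inv_mul_cancel_left]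
    calc c * s * t * (v * (c * s * t)⁻¹) = c * (s * (t * v * t⁻¹) * s⁻¹) * c⁻¹ := by group
      _ = W := by rw [e1, hsi]; exact e2
  -- the relations in the centraliser of `c`
  have hWW : W * W = 1 := by
    simp only [W]
    calc s * v * s * (s * v * s) = s * v * (s * s) * v * s := by group
      _ = s * (v * v) * s := by rw [C.s2]; group
      _ = 1 := by rw [V.v2, mul_one, C.s2]
  have hWt : W * t = t * W := by
    have a : Commute s t := g.st
    exact ((a.mul_left (show Commute v t from V.vt)).mul_left a).eq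
  have hWc : W * c = c * W := by
    have h1 : c * s = s * c⁻¹ := by
      calc c * s = (s * s) * c * s := by rw [C.s2, one_mul]
        _ = s * (s * c * s) := by group
        _ = _ := by rw [g.scs]
    have h2 : s * c = c⁻¹ * s := by
      calc s * c = s * c * s * s := by rw [mul_assoc, C.s2, mul_one]
        _ = _ := by rw [g.scs]
    have h3 : v * c⁻¹ = c⁻¹ * v := ((show Commute v c from V.vc).inv_right).eq
    calc W * c = s * v * (s * c) := by simp only [W]; group
      _ = s * (v * c⁻¹) * s := by rw [h2]; group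
      _ = (s * c⁻¹) * v * s := by rw [h3]; group
      _ = _ := by rw [← h1]; simp only [W]; group
  have hWF : ∀ i n, (v * (d ^ i)⁻¹) ^ n = 1 → (W * d ^ i) ^ n = 1 := by
    intro i n hh
    have : W * d ^ i = s * (v * (d ^ i)⁻¹) * s⁻¹ := by
      have e : s * d ^ i = (d ^ i)⁻¹ * s := C.s_dpow i
      calc W * d ^ i = s * v * (s * d ^ i) := by simp only [W]; group
        _ = _ := by rw [e, hsi]; group
    rw [this, conj_pow, hh]; group
  have hd6 : d ^ 6 * d ^ 6 = d ^ 12 := by rw [← pow_add]
  obtain ⟨hVWF, hFTW⟩ := six_relations h g.frame g.tD hG g.cardY (V := v) (W := W) (F := d ^ 6) V.vc hWc (hD 6)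
    V.v2 hWW V.vt hWt V.sq (by rw [← pow_mul, show 6 * 5 = 15 * 2 from rfl, pow_mul, C.d15, one_pow])
    (by
      have : t * d ^ 6 * t = d ^ 24 := C.t_dpow 6
      calc t * d ^ 6 * (t * d ^ 6) = t * d ^ 6 * t * d ^ 6 := by group
        _ = (d ^ 15) ^ 2 := by rw [this, ← pow_add, ← pow_mul]
        _ = 1 := by rw [C.d15, one_pow])
    (by rw [hd6]; exact hA12) hA6
    (hWF 6 5 (by rw [C.dinv 6]; exact hA9)) (by rw [hd6]; exact hWF 12 3 (by rw [C.dinv 12]; exact hA3))
  -- all relators
  have hrel : ∀ w ∈ allWords, appProd L w = 1 := by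
    intro w hw
    rcases words_small w hw with ⟨h3, e⟩ | hmem
    · rw [hsmall w h3, e, Nf.one_spec.2]
    rcases List.mem_append.1 hmem with hm | hm
    · simp only [List.mem_cons, List.not_mem_nil, or_false] at hm
      rcases hm with rfl | rfl | rfl | rfl
      · rfl
      · simp only [appProd, one_mul]
        have h03 : L 0 * L 3 = v := by
          simp only [hL, show ¬ (0 : ℕ) = 3 by norm_num, if_false, if_true, Nf.letter]
          rw [← mul_assoc, C.u2, one_mul]
        rw [mul_assoc, h03, V.v2]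
      · simp only [appProd, one_mul]
        have h23 : L 2 * L 3 = L 3 * L 2 := by
          simp only [hL, show ¬ (2 : ℕ) = 3 by norm_num, if_false, if_true, Nf.letter]
          rw [← mul_assoc, C.tut, mul_assoc, ← V.vt, ← mul_assoc]
        calc L 2 * L 3 * L 2 * L 3 = L 2 * (L 3 * L 2) * L 3 := by group
          _ = L 2 * L 2 * (L 3 * L 3) := by rw [← h23]; group
          _ = 1 := by rw [hLi, hLi, one_mul]
      · simp only [appProd, one_mul]; exact hLi 3
    obtain ⟨sw, hsw, rfl⟩ := List.mem_map.1 hm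
    rw [appProd_red L hLi]
    simp only [semWords, List.mem_append, List.mem_cons, List.not_mem_nil, or_false, List.mem_map, List.mem_range] at hsw
    rcases hsw with (((rfl | ⟨k, hk, rfl⟩) | rfl) | ⟨ij, hij, rfl⟩) | rfl | rfl
    · simp only [appProd_append, appProd_rev L hLi, hvW, ec]
      calc v * (c⁻¹ * (v * c)) = v * (c⁻¹ * (c * v)) := by rw [V.vc]
        _ = 1 := by rw [inv_mul_cancel_left, V.v2]
    · obtain ⟨hj, hk'⟩ := hvA k hk
      obtain ⟨hek, hek3⟩ := heW (k + 1) (by omega)
      obtain ⟨hej, hej3⟩ := heW _ hj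
      simp only [appProd_append, hvW, hsmall _ hek3, hsmall _ hej3, hek, hej]
      simp only [Nf.val, Bool.false_eq_true, if_false, pow_zero, mul_one]
      have := V.act _ (pw_lt (k + 1))
      rw [hk', hvi, C.val_pw (vAct.getD (k + 1) 0)] at this
      calc val u d (pw (vAct.getD (k + 1) 0)) * (v * (val u d (pw (k + 1)) * v))
          = e u d (vAct.getD (k + 1) 0) * (v * val u d (pw (k + 1)) * v) := by rw [C.val_pw]; group
        _ = 1 := by rw [this, C.e_sq]
    · rw [appProd_rep, appProd_append, hvW, ef2]; exact hA12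
    · obtain ⟨h1, h2⟩ := hqp ij hij
      simp only [appProd_append, eK _ h1, eK _ h2]
      rw [show appProd L [2] = t by simp [appProd, hL, Nf.letter]]
      have := V.five ij hij (fun i => (kStr.getD i []).foldl
        (fun z k => z * (match k with | 0 => u | 1 => c | 2 => s | _ => t)) 1 * v *
        (invStr (kStr.getD i [])).foldl (fun z k => z * (match k with | 0 => u | 1 => c | 2 => s | _ => t)) 1)
        (fun _ => rfl)
      refine Eq.trans ?_ this
      simp only [mul_assoc]
    · rw [appProd_rep]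
      simp only [appProd_append, hvW, esW, ef]
      rw [← mul_assoc]; exact hVWF
    · rw [appProd_rep, appProd_append, esW, eft]; exact hFTW
  refine CfsgLib.Sporadic.CosetCert.J3U.iso_of_gens hG L (fun x _ => hLi x) hrel ?_
  intro e
  apply N.ub
  have e0 : L 1 * L 0 = 1 := e
  simp only [hL, show ¬ (1 : ℕ) = 3 by norm_num, show ¬ (0 : ℕ) = 3 by norm_num, if_false, Nf.letter] at e0
  exact ((eq_inv_of_mul_eq_one_left e0).trans (inv_eq_of_mul_eq_one_right C.u2)).symm

/-- Uniqueness. -/
theorem isoJ3 (h : Loc t ρ) (hone : ∀ x y : G, orderOf x = 2 → orderOf y = 2 → IsConj x y)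
    (hG : Nat.card G = 50232960) : Cfsg.Spor.IsoJ3 G := by
  obtain ⟨e⟩ := iso_PG h hone hG
  exact ⟨CfsgLib.Sporadic.FieldFour, inferInstance, inferInstance, CfsgLib.Sporadic.J3Mat.w4,
    CfsgLib.Sporadic.FieldFour.card_eq, by decide +kernel, ⟨e.trans CfsgLib.Sporadic.J3Mat.equivPG⟩⟩

end CfsgLib.Sporadic.J3Unique
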