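import Cfsg.Agent.Lib.Sporadic.J3Linear.Main
import Cfsg.Agent.Lib.Sporadic.J3Unique.Data
import Cfsg.Agent.Lib.Sporadic.J3Unique.Field

/-!
# Normalised generators: the field, and the involution `v`
-/

set_option autoImplicit false
set_option maxRecDepth 100000
set_option linter.style.haveILetI false
set_option linter.unusedSectionVars false

namespace CfsgLib.Sporadic.J3Unique

open CfsgLib.SmallGroups.J3Order (Loc)
open CfsgLib.Sporadic.J3Linear
open Subgroup

variable {G : Type*} [Group G] [Finite G] {t : G} {ρ : ℕ → G}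

/-- The action of `v` on bit vectors. -/
def actV (x : ℕ) : ℕ :=
  (if x.testBit 0 then 1 else 0) ^^^ (if x.testBit 1 then 5 else 0) ^^^
    (if x.testBit 2 then 3 else 0) ^^^ (if x.testBit 3 then 14 else 0)

/-- Generators with the field normalised. -/
structure Norm (t c : G) (E : Subgroup G) (d s u : G) : Prop where
  ctx : Ctx u d s t
  dc : d ^ 10 = c
  dD : d ∈ dGrp E c
  uE : u ∈ E
  mem : ∀ x < 16, val u d x ∈ E
  cover : ∀ y ∈ E, ∃ x < 16, val u d x = y
  inj : ∀ x < 16, ∀ y < 16, val u d x = val u d y → x = y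
  ub : u ≠ e u d 11 * d ^ 6 * s * e u d 11

/-- The product of the conjugates of `u` selected by the bits of a mask. -/
def vv (d u : G) (S : ℕ) : G :=
  (List.range 15).foldl (fun z k => if S.testBit k then z * (d ^ k * u * (d ^ k)⁻¹) else z) 1

theorem vv_xor {E : Subgroup G} {d u : G} (hE : ∀ x ∈ E, x * x = 1)
    (hu : ∀ i : ℕ, d ^ i * u * (d ^ i)⁻¹ ∈ E) (S T : ℕ) : vv d u (S ^^^ T) = vv d u S * vv d u T := by
  have hc : ∀ x ∈ E, ∀ y ∈ E, x * y = y * x := by
    intro x hx y hy
    have e1 := hE _ (mul_mem hx hy)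
    calc x * y = (x * y)⁻¹ := (inv_eq_of_mul_eq_one_right e1).symm
      _ = y⁻¹ * x⁻¹ := mul_inv_rev x y
      _ = y * x := by rw [inv_eq_of_mul_eq_one_right (hE x hx), inv_eq_of_mul_eq_one_right (hE y hy)]
  have gen : ∀ (L : List ℕ) (a b : G), a ∈ E → b ∈ E →
      L.foldl (fun z k => if (S ^^^ T).testBit k then z * (d ^ k * u * (d ^ k)⁻¹) else z) (a * b) =
      L.foldl (fun z k => if S.testBit k then z * (d ^ k * u * (d ^ k)⁻¹) else z) a *
        L.foldl (fun z k => if T.testBit k then z * (d ^ k * u * (d ^ k)⁻¹) else z) b := by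
    intro L
    induction L with
    | nil => intros; rfl
    | cons k L ih =>
      intro a b ha hb
      simp only [List.foldl_cons]
      rw [show (S ^^^ T).testBit k = (S.testBit k ^^ T.testBit k) from Nat.testBit_xor S T k]
      set g := d ^ k * u * (d ^ k)⁻¹
      have hg : g ∈ E := hu k
      cases S.testBit k <;> cases T.testBit k <;> simp only [Bool.xor_false, Bool.xor_true, Bool.not_true, Bool.not_false, Bool.false_eq_true, if_false, if_true]
      · exact ih a b ha hb
      · rw [mul_assoc]; exact ih a (b * g) ha (mul_mem hb hg)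
      · rw [show a * b * g = a * g * b by rw [mul_assoc, hc b hb g hg, ← mul_assoc]]
        exact ih (a * g) b (mul_mem ha hg) hb
      · rw [show a * b = a * g * (b * g) by
          rw [mul_assoc a g, ← mul_assoc g b, hc g hg b hb, mul_assoc b g, hE g hg, mul_one]]
        exact ih (a * g) (b * g) (mul_mem ha hg) (mul_mem hb hg)
  simpa [vv] using gen (List.range 15) 1 1 (one_mem E) (one_mem E)

theorem vv_single (d u : G) : ∀ a < 15, vv d u (2 ^ a) = d ^ a * u * (d ^ a)⁻¹ := by
  intro a ha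
  interval_cases a <;> simp +decide [vv, List.range, List.range.loop]

/-- Certificates that the other exponents are impossible. -/
def certP : List ℕ := [16532, 297, 99, 23699, 0, 3238, 6307, 22736, 3603, 3339, 3269, 6245, 0, 7625, 198]

/-- The relation of three conjugates, as a mask. -/
def relMask (m j : ℕ) : ℕ := 2 ^ j ^^^ 2 ^ ((j + 1) % 15) ^^^ 2 ^ ((j + m) % 15)

theorem cert_spec : ∀ m < 15, m = 4 ∨ m = 12 ∨ (List.range 15).foldl
    (fun o j => if (certP.getD m 0).testBit j then o ^^^ relMask m j else o) 0 = 2 ^ 0 ^^^ 2 ^ 3 ^^^ 2 ^ 5 ^^^ 2 ^ 8 := by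
  decide +kernel

/-- The relation of the field, up to the choice of the root. -/
theorem exponent {E : Subgroup G} {d0 s u : G} (S : Steinberg E d0 s u) :
    u * (d0 * u * d0⁻¹) = d0 ^ 4 * u * (d0 ^ 4)⁻¹ ∨ u * (d0 * u * d0⁻¹) = d0 ^ 12 * u * (d0 ^ 12)⁻¹ := by
  have hu : ∀ i : ℕ, d0 ^ i * u * (d0 ^ i)⁻¹ ∈ E := S.conj_mem S.uE
  have hmod : ∀ i, d0 ^ (i % 15) = d0 ^ i := fun i => S.od ▸ pow_mod_orderOf d0 i
  have hne : u * (d0 * u * d0⁻¹) ≠ 1 := by
    intro e
    have e' : d0 ^ 1 * u = u * d0 ^ 1 := by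
      have := (inv_eq_of_mul_eq_one_right (S.sq u S.uE)).symm.trans (inv_eq_of_mul_eq_one_right e)
      rw [pow_one]
      exact (eq_mul_inv_iff_mul_eq.1 this).symm
    rcases S.free u S.uE 1 e' with h | h
    · exact S.u1 h
    · norm_num at h
  obtain ⟨m, hm, hme⟩ := S.orbit (mul_mem S.uE (by simpa using hu 1)) hne
  rcases cert_spec m hm with rfl | rfl | hcert
  · exact Or.inl hme.symm
  · exact Or.inr hme.symm
  exfalso
  let f : ℕ → G := fun k => d0 ^ k * u * (d0 ^ k)⁻¹
  have fmod : ∀ i, f (i % 15) = f i := fun i => by simp only [f]; rw [hmod]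
  have fsq : ∀ i, f i * f i = 1 := fun i => S.sq _ (hu i)
  have hR : ∀ j < 15, vv d0 u (relMask m j) = 1 := by
    intro j hj
    rw [relMask, vv_xor S.sq hu, vv_xor S.sq hu, vv_single _ _ _ hj, vv_single _ _ _ (Nat.mod_lt _ (by norm_num)),
      vv_single _ _ _ (Nat.mod_lt _ (by norm_num))]
    show f j * f ((j + 1) % 15) * f ((j + m) % 15) = 1
    rw [fmod, fmod]
    calc f j * f (j + 1) * f (j + m) = d0 ^ j * (u * (d0 * u * d0⁻¹) * (d0 ^ m * u * (d0 ^ m)⁻¹)) * (d0 ^ j)⁻¹ := by
          simp only [f, pow_add, pow_one]; group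
      _ = 1 := by rw [← hme, fsq m]; group
  have hall : ∀ (L : List ℕ), (∀ j ∈ L, j < 15) → ∀ o, vv d0 u o = 1 →
      vv d0 u (L.foldl (fun o j => if (certP.getD m 0).testBit j then o ^^^ relMask m j else o) o) = 1 := by
    intro L
    induction L with
    | nil => intro _ o h; exact h
    | cons j L ih =>
      intro hL o ho
      refine ih (fun k hk => hL k (List.mem_cons_of_mem _ hk)) _ ?_
      by_cases hb : (certP.getD m 0).testBit j = true
      · simp only [hb, if_true]
        rw [vv_xor S.sq hu, ho, hR j (hL j List.mem_cons_self), one_mul]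
      · simp only [hb]
        exact ho
  have hT := hall (List.range 15) (fun j hj => List.mem_range.1 hj) 0 (by simp [vv])
  rw [hcert, vv_xor S.sq hu, vv_xor S.sq hu, vv_xor S.sq hu, vv_single _ _ _ (by norm_num),
    vv_single _ _ _ (by norm_num), vv_single _ _ _ (by norm_num), vv_single _ _ _ (by norm_num)] at hT
  have hT' : f 0 * f 3 * f 5 * f 8 = 1 := hT
  have fc : f 0 * f 3 = f 3 * f 0 := by
    have h1 := S.sq _ (mul_mem (hu 0) (hu 3))
    calc f 0 * f 3 = (f 0 * f 3)⁻¹ := (inv_eq_of_mul_eq_one_right h1).symm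
      _ = _ := by rw [mul_inv_rev, inv_eq_of_mul_eq_one_right (fsq 0), inv_eq_of_mul_eq_one_right (fsq 3)]
  have hy5 : d0 ^ 5 * (f 0 * f 3) = f 0 * f 3 * d0 ^ 5 := by
    have e : f 5 * f 8 = f 0 * f 3 := by
      have h1 : f 5 * f 8 = (f 0 * f 3)⁻¹ := (inv_eq_of_mul_eq_one_right (by rw [← hT', mul_assoc (f 0 * f 3)])).symm
      rw [h1, mul_inv_rev, inv_eq_of_mul_eq_one_right (fsq 0), inv_eq_of_mul_eq_one_right (fsq 3), fc]
    nth_rewrite 2 [← e]
    simp only [f]
    group
  rcases S.free _ (mul_mem (hu 0) (hu 3)) 5 hy5 with h | h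
  · have h' : d0 ^ 3 * u = u * d0 ^ 3 := by
      have := (inv_eq_of_mul_eq_one_right (fsq 0)).symm.trans (inv_eq_of_mul_eq_one_right h)
      simp only [f, pow_zero, one_mul, inv_one, mul_one] at this
      exact (eq_mul_inv_iff_mul_eq.1 this).symm
    rcases S.free u S.uE 3 h' with h1 | h1
    · exact S.u1 h1
    · norm_num at h1
  · norm_num at h

set_option maxHeartbeats 1000000 in
/-- Normalised generators. -/
theorem exists_norm (h : Loc t ρ) {E : Subgroup G} {f s u : G} (g : Gens t ρ E f s u) :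
    ∃ d : G, Norm t (ρ 2) E d s u := by
  set c := ρ 2 with hc
  set d0 := c * f with hd0
  have S := g.stein
  have hd15 : d0 ^ 15 = 1 := S.od ▸ pow_orderOf_eq_one d0
  have hmod : ∀ i, d0 ^ (i % 15) = d0 ^ i := fun i => S.od ▸ pow_mod_orderOf d0 i
  have htt : t * t = 1 := by
    have := pow_orderOf_eq_one t
    rwa [h.ht, pow_two] at this
  have hti : t⁻¹ = t := inv_eq_of_mul_eq_one_right htt
  have hsi : s⁻¹ = s := inv_eq_of_mul_eq_one_right S.w2
  have hfc : Commute c f := (show Commute f c from mem_cent.1 g.fD.2).symm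
  have hd10 : d0 ^ 10 = c := by
    rw [hfc.mul_pow, show f ^ 10 = (f ^ 5) ^ 2 by rw [← pow_mul], show f ^ 5 = 1 from g.fo ▸ pow_orderOf_eq_one f,
      one_pow, mul_one, ← pow_mod_orderOf c 10, g.frame.oc, pow_one]
  have hd0D : d0 ∈ dGrp E c := mul_mem ⟨g.frame.mem, mem_cent.2 rfl⟩ g.fD
  have hsus : s * u * s = u * s * u := by
    have h := S.wu
    rw [pow_succ, pow_two] at h
    have h1 : s * u * s * (u * s * u) = 1 := by rw [← h]; group
    have hu := S.sq u S.uE
    have h2 : (u * s * u) * (u * s * u) = 1 := by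
      calc u * s * u * (u * s * u) = u * s * (u * u) * s * u := by group
        _ = u * (s * s) * u := by rw [hu]; group
        _ = 1 := by rw [S.w2, mul_one, hu]
    exact (eq_inv_of_mul_eq_one_left h1).trans (inv_eq_of_mul_eq_one_right h2)
  obtain ⟨r, r', hr, hpoly⟩ : ∃ r r' : ℕ, r * r' % 15 = 1 ∧ r * 10 % 15 = 10 ∧
      u * ((d0 ^ r) * u * (d0 ^ r)⁻¹) = (d0 ^ r) ^ 4 * u * ((d0 ^ r) ^ 4)⁻¹ := by
    rcases exponent S with e | e
    · exact ⟨1, 1, rfl, rfl, by rw [pow_one]; exact e⟩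
    · refine ⟨7, 13, rfl, rfl, ?_⟩
      -- in the other field the seventh power is a root
      let F : ℕ → G := fun k => d0 ^ k * u * (d0 ^ k)⁻¹
      have sh : ∀ j, F (j + 12) = F j * F (j + 1) := by
        intro j
        calc F (j + 12) = d0 ^ j * (d0 ^ 12 * u * (d0 ^ 12)⁻¹) * (d0 ^ j)⁻¹ := by simp only [F, pow_add]; group
          _ = d0 ^ j * (u * (d0 * u * d0⁻¹)) * (d0 ^ j)⁻¹ := by rw [e]
          _ = F j * F (j + 1) := by simp only [F, pow_add, pow_one]; group
      have Fm : ∀ i, F (i % 15) = F i := fun i => by simp only [F]; rw [hmod]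
      have Fc : ∀ i k, F i * F k = F k * F i := fun i k => by
        have hE := S.sq _ (mul_mem (S.conj_mem S.uE i) (S.conj_mem S.uE k))
        calc F i * F k = (F i * F k)⁻¹ := (inv_eq_of_mul_eq_one_right hE).symm
          _ = _ := by
            rw [mul_inv_rev, inv_eq_of_mul_eq_one_right (S.sq _ (S.conj_mem S.uE i) : F i * F i = 1),
              inv_eq_of_mul_eq_one_right (S.sq _ (S.conj_mem S.uE k) : F k * F k = 1)]
      have Fs : ∀ i, F i * F i = 1 := fun i => S.sq _ (S.conj_mem S.uE i)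
      have key : F 0 * F 7 = F 28 := by
        have h3 : F 3 * F 4 = F 0 := by rw [← sh 3, ← Fm (3 + 12)]
        have h4 : F 4 * F 5 = F 1 := by rw [← sh 4, ← Fm (4 + 12)]
        have h5 : F 5 * F 6 = F 2 := by rw [← sh 5, ← Fm (5 + 12)]
        have h6 : F 6 * F 7 = F 3 := by rw [← sh 6, ← Fm (6 + 12)]
        have h1 : F 1 * F 2 = F 13 := by rw [← sh 1]
        -- `F 7 = F 6 F 3`, `F 0 F 7 = F 4 F 6 = F 4 F 5 F 5 F 6 = F 1 F 2`
        have e7 : F 7 = F 6 * F 3 := by rw [← h6, ← mul_assoc, Fs, one_mul]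
        calc F 0 * F 7 = F 3 * F 4 * (F 6 * F 3) := by rw [h3, e7]
          _ = F 3 * (F 4 * F 6) * F 3 := by simp only [mul_assoc]
          _ = F 4 * F 6 := by
              rw [show F 3 * (F 4 * F 6) = F 4 * F 6 * F 3 by
                rw [← mul_assoc, Fc 3 4, mul_assoc, Fc 3 6, ← mul_assoc], mul_assoc, Fs, mul_one]
          _ = (F 4 * F 5) * (F 5 * F 6) := by
              rw [mul_assoc (F 4) (F 5), ← mul_assoc (F 5) (F 5), Fs, one_mul]
          _ = F 1 * F 2 := by rw [h4, h5]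
          _ = F 28 := by rw [h1, ← Fm 28]
      simpa [F, ← pow_mul] using key
  set d := d0 ^ r with hd
  obtain ⟨hr10, hpoly⟩ := hpoly
  have hdpow : ∀ i, d ^ i = d0 ^ (r * i) := fun i => by rw [hd, pow_mul]
  have hE : ∀ k, e u d k ∈ E := fun k => by rw [e, hdpow]; exact S.conj_mem S.uE _
  have hs : s * d * s = d⁻¹ := by
    rw [hd]
    nth_rewrite 2 [← hsi]
    rw [← conj_pow, hsi, S.inv, inv_pow]
  have C : Ctx u d s t :=
    { u2 := S.sq u S.uE
      d15 := by rw [hdpow, mul_comm, pow_mul, hd15, one_pow]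
      s2 := S.w2
      t2 := htt
      comm := fun i j => by
        show e u d i * e u d j = e u d j * e u d i
        have h1 := S.sq _ (mul_mem (hE i) (hE j))
        calc e u d i * e u d j = (e u d i * e u d j)⁻¹ := (inv_eq_of_mul_eq_one_right h1).symm
          _ = _ := by
            rw [mul_inv_rev, inv_eq_of_mul_eq_one_right (S.sq _ (hE i)), inv_eq_of_mul_eq_one_right (S.sq _ (hE j))]
      poly := hpoly
      sds := hs
      sus := hsus
      tut := g.ut.symm
      tdt := by
        rw [hd]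
        nth_rewrite 2 [← hti]
        rw [← conj_pow, hti, g.tdt, ← pow_mul, ← pow_mul, mul_comm]
      tst := g.st.symm }
  have hmem : ∀ x < 16, val u d x ∈ E := fun x hx => by
    by_cases h0 : x = 0
    · rw [h0, Ctx.val_zero]; exact one_mem E
    · rw [C.val_eq_e hx h0]; exact hE _
  refine ⟨d, C, ?_, pow_mem hd0D r, S.uE, hmem, ?_, ?_, ?_⟩
  · rw [hdpow, ← hmod, hr10, hd10]
  · intro y hy
    by_cases hy1 : y = 1
    · exact ⟨0, by norm_num, by rw [Ctx.val_zero, hy1]⟩
    · obtain ⟨i, -, rfl⟩ := S.orbit hy hy1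
      refine ⟨pw (r' * i), pw_lt _, ?_⟩
      rw [C.val_pw, e, hdpow, ← hmod, ← mul_assoc r r', Nat.mul_mod, hr, one_mul, Nat.mod_mod, hmod]
  · intro x hx y hy hxy
    by_contra hne
    have hz : x ^^^ y ≠ 0 := fun e0 => hne (Nat.xor_eq_zero_iff.1 e0)
    have h1 : val u d (x ^^^ y) = 1 := by rw [C.val_xor, hxy, ← C.val_xor, Nat.xor_self, Ctx.val_zero]
    rw [C.val_eq_e (xor_lt hx hy) hz, e, conj_eq_one_iff] at h1
    exact S.u1 h1
  · intro hub
    refine S.w_not_mem ?_
    have key : ∀ a b w : G, u = a * b * w * a → w = (a * b)⁻¹ * u * a⁻¹ := fun a b w e => by rw [e]; group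
    have h' := mul_mem (mul_mem (inv_mem (mul_mem (S.E_le (hE 11)) (show d ^ 6 ∈ S.borel by
      rw [hdpow]; exact S.pow_mem_borel _))) (S.E_le S.uE)) (inv_mem (S.E_le (hE 11)))
    rwa [← key _ _ _ hub] at h'

end CfsgLib.Sporadic.J3Unique
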